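import Cfsg.Agent.Lib.PSpFourSpec.TensorAction
import Mathlib.GroupTheory.Perm.Sign
import Mathlib.GroupTheory.Perm.Fin

/-!
The witness for `q = 3`: `S₅` on the signed deleted permutation module over `𝔽₃`.
-/

set_option autoImplicit false

namespace CfsgLib.PSpFourSpec

/-- The deleted permutation module. -/
def DelMod : Type := Fin 4 → ZMod 3

instance : AddCommGroup DelMod := inferInstanceAs (AddCommGroup (Fin 4 → ZMod 3))
instance : DecidableEq DelMod := inferInstanceAs (DecidableEq (Fin 4 → ZMod 3))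
instance : Fintype DelMod := inferInstanceAs (Fintype (Fin 4 → ZMod 3))

/-- The sum-zero extension. -/
def extend5 (v : DelMod) : Fin 5 → ZMod 3 := ![v 0, v 1, v 2, v 3, -(v 0 + v 1 + v 2 + v 3)]

/-- The signed action. -/
def act5 (g : Equiv.Perm (Fin 5)) (v : DelMod) : DelMod :=
  fun i => ((Equiv.Perm.sign g : ℤ) : ZMod 3) * extend5 v (g⁻¹ i.castSucc)

theorem extend5_act5 (g : Equiv.Perm (Fin 5)) (v : DelMod) (i : Fin 5) :
    extend5 (act5 g v) i = ((Equiv.Perm.sign g : ℤ) : ZMod 3) * extend5 v (g⁻¹ i) := by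
  have h0 : ∑ j, extend5 v j = 0 := by simp [extend5, Fin.sum_univ_five]
  have h := Equiv.sum_comp (g⁻¹ : Equiv.Perm (Fin 5)) (extend5 v)
  rw [h0, Fin.sum_univ_five] at h
  fin_cases i
  · rfl
  · rfl
  · rfl
  · rfl
  · show -(_ * extend5 v (g⁻¹ 0) + _ * extend5 v (g⁻¹ 1) + _ * extend5 v (g⁻¹ 2) + _ * extend5 v (g⁻¹ 3)) =
      _ * extend5 v (g⁻¹ 4)
    linear_combination -((Equiv.Perm.sign g : ℤ) : ZMod 3) * h

instance : DistribMulAction (Equiv.Perm (Fin 5)) DelMod where
  smul := act5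
  one_smul v := funext fun i => by
    show ((Equiv.Perm.sign (1 : Equiv.Perm (Fin 5)) : ℤ) : ZMod 3) * extend5 v ((1 : Equiv.Perm (Fin 5))⁻¹ i.castSucc) = v i
    fin_cases i <;> simp [extend5]
  mul_smul g h v := funext fun i => by
    show ((Equiv.Perm.sign (g * h) : ℤ) : ZMod 3) * extend5 v ((g * h)⁻¹ i.castSucc) =
      ((Equiv.Perm.sign g : ℤ) : ZMod 3) * extend5 (act5 h v) (g⁻¹ i.castSucc)
    rw [extend5_act5, map_mul, Units.val_mul, Int.cast_mul, mul_assoc, mul_inv_rev, Equiv.Perm.mul_apply]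
  smul_zero g := funext fun i => by
    show _ * extend5 0 _ = 0
    have : ∀ j, extend5 0 j = 0 := by decide +kernel
    rw [this, mul_zero]
  smul_add g v w := funext fun i => by
    show _ * extend5 (v + w) _ = _ * extend5 v _ + _ * extend5 w _
    rw [← mul_add]
    congr 1
    generalize g⁻¹ i.castSucc = j
    fin_cases j
    · rfl
    · rfl
    · rfl
    · rfl
    · show -((v 0 + w 0) + (v 1 + w 1) + (v 2 + w 2) + (v 3 + w 3)) =
        -(v 0 + v 1 + v 2 + v 3) + -(w 0 + w 1 + w 2 + w 3)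
      ring

theorem s5_cases : ∀ g : Equiv.Perm (Fin 5), g ^ 4 = 1 ∨ g ^ 5 = 1 ∨ g ^ 6 = 1 := by decide +kernel

theorem s5_five : ∀ g : Equiv.Perm (Fin 5), g ^ 5 = 1 → g ≠ 1 → ∀ w : DelMod, g • w = w → w = 0 := by
  decide +kernel

theorem s5_six : ∀ g : Equiv.Perm (Fin 5), g ^ 6 = 1 → g ^ 2 ≠ 1 → g ^ 3 ≠ 1 →
    ∀ w : DelMod, ∑ j ∈ Finset.range 6, g ^ j • w = 0 := by
  decide +kernel

theorem witness_q_three (N : ℕ) :
    ∃ (H : Type) (_ : Group H) (_ : Fintype H), N < Fintype.card H ∧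
      Set.range (orderOf : H → ℕ) = {d | ∃ M ∈ specFour 3 3, d ∣ M} := by
  have hspec : specFour 3 3 = {4, 5, 6, 12, 9} := by
    have hc : Nat.clog 3 4 = 2 := by
      rw [Nat.clog_of_two_le (by norm_num) (by norm_num)]
      norm_num [Nat.clog_eq_one]
    simp [specFour, specList, eFac, hc]
  refine exists_big (X := Equiv.Perm (Fin 5)) (W := DelMod) Nat.prime_three (fun w => ?_)
    (w := (fun i => if i = 0 then 1 else 0 : DelMod)) (fun h => absurd (congrFun h (0 : Fin 4)) (show (1 : ZMod 3) ≠ 0 by decide +kernel)) _ (fun g => ?_) (fun g w hw => ?_)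
    (fun M hM => ?_) N
  · funext i
    show 3 • w i = 0
    generalize w i = a
    revert a
    decide +kernel
  · rw [hspec]
    rcases s5_cases g with h | h | h
    · exact ⟨4, by simp, orderOf_dvd_of_pow_eq_one h⟩
    · exact ⟨5, by simp, orderOf_dvd_of_pow_eq_one h⟩
    · exact ⟨6, by simp, orderOf_dvd_of_pow_eq_one h⟩
  · rw [hspec]
    rcases s5_cases g with h | h | h
    · exact ⟨12, by simp, Nat.mul_dvd_mul_left 3 (orderOf_dvd_of_pow_eq_one h)⟩
    · rcases eq_or_ne g 1 with rfl | hg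
      · exact ⟨6, by simp, by rw [orderOf_one]; norm_num⟩
      · exact absurd (s5_five g h hg _ (smul_nm g w)) hw
    · by_cases h2 : g ^ 2 = 1
      · exact ⟨6, by simp, Nat.mul_dvd_mul_left 3 (orderOf_dvd_of_pow_eq_one h2)⟩
      by_cases h3 : g ^ 3 = 1
      · exact ⟨9, by simp, Nat.mul_dvd_mul_left 3 (orderOf_dvd_of_pow_eq_one h3)⟩
      have ho : orderOf g = 6 := by
        have hd := orderOf_dvd_of_pow_eq_one h
        have hle := Nat.le_of_dvd (by norm_num) hd
        have hn2 : ¬ orderOf g ∣ 2 := fun hh => h2 (orderOf_dvd_iff_pow_eq_one.1 hh)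
        have hn3 : ¬ orderOf g ∣ 3 := fun hh => h3 (orderOf_dvd_iff_pow_eq_one.1 hh)
        interval_cases hg : orderOf g <;> first | rfl | omega
      refine absurd ?_ hw
      rw [ModuleExt.nm, ho]
      exact s5_six g h h2 h3 w
  · rw [hspec] at hM
    let c4 : Equiv.Perm (Fin 5) := Equiv.swap 0 1 * Equiv.swap 1 2 * Equiv.swap 2 3
    let c3 : Equiv.Perm (Fin 5) := Equiv.swap 0 1 * Equiv.swap 1 2
    let c6 : Equiv.Perm (Fin 5) := c3 * Equiv.swap 3 4
    have o4 : orderOf c4 = 2 ^ (1 + 1) := orderOf_eq_prime_pow (by decide +kernel) (by decide +kernel)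
    have o3 : orderOf c3 = 3 := orderOf_eq_prime (by decide +kernel) (by decide +kernel)
    have o6 : orderOf c6 = 6 := by
      rw [orderOf_eq_iff (by norm_num)]
      exact ⟨by decide +kernel, fun j hj hj0 => by interval_cases j <;> decide +kernel⟩
    simp only [Finset.mem_insert, Finset.mem_singleton] at hM
    rcases hM with rfl | rfl | rfl | rfl | rfl
    · exact Or.inl ⟨c4, by rw [o4]; norm_num⟩
    · refine Or.inl ⟨finRotate 5, ?_⟩
      haveI : Fact (Nat.Prime 5) := ⟨by norm_num⟩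
      have hc : orderOf (finRotate 5) = 5 := orderOf_eq_prime (by decide +kernel) (by decide +kernel)
      rw [hc]
    · exact Or.inl ⟨c6, by rw [o6]⟩
    · refine Or.inr ⟨c4, ?_, by rw [o4]; norm_num⟩
      unfold ModuleExt.nm
      rw [o4]
      decide +kernel
    · refine Or.inr ⟨c3, ?_, by rw [o3]⟩
      unfold ModuleExt.nm
      rw [o3]
      decide +kernel

end CfsgLib.PSpFourSpec
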