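import Cfsg.Agent.Lib.PSpFourSpec.Upper
import Mathlib.RingTheory.Discriminant
import Mathlib.FieldTheory.Finite.Extension

/-!
The element orders of `PSp₄(q)`: existence.
-/

set_option autoImplicit false

namespace CfsgLib.PSpFourSpec

open Polynomial Matrix

variable {F : Type*} [Field F]

/-- Two copies of `SL₂` side by side. -/
def pairMat (A B : Matrix (Fin 2) (Fin 2) F) : Matrix (Fin 2 ⊕ Fin 2) (Fin 2 ⊕ Fin 2) F :=
  fromBlocks (diagonal ![A 0 0, B 0 0]) (diagonal ![A 0 1, B 0 1])
    (diagonal ![A 1 0, B 1 0]) (diagonal ![A 1 1, B 1 1])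

theorem pairMat_mul (A B A' B' : Matrix (Fin 2) (Fin 2) F) :
    pairMat A B * pairMat A' B' = pairMat (A * A') (B * B') := by
  simp only [pairMat, fromBlocks_multiply, diagonal_mul_diagonal, diagonal_add]
  congr 1 <;> congr 1 <;> funext i <;> fin_cases i <;> simp [Matrix.mul_apply, Fin.sum_univ_two]

theorem pairMat_one : pairMat (1 : Matrix (Fin 2) (Fin 2) F) 1 = 1 := by
  rw [pairMat, ← fromBlocks_one]
  congr 1 <;> ext i j <;> fin_cases i <;> fin_cases j <;> simp [Matrix.one_apply]

theorem pairMat_mem (A B : SpecialLinearGroup (Fin 2) F) :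
    pairMat (A : Matrix (Fin 2) (Fin 2) F) B ∈ symplecticGroup (Fin 2) F := by
  have h : ∀ C : SpecialLinearGroup (Fin 2) F,
      (C : Matrix (Fin 2) (Fin 2) F) 0 0 * (C : Matrix (Fin 2) (Fin 2) F) 1 1 -
        (C : Matrix (Fin 2) (Fin 2) F) 0 1 * (C : Matrix (Fin 2) (Fin 2) F) 1 0 = 1 := fun C => by
    rw [← Matrix.det_fin_two]; exact C.2
  rw [SymplecticGroup.mem_iff]
  simp only [pairMat, J, fromBlocks_transpose, diagonal_transpose, fromBlocks_multiply, mul_zero, zero_mul,
    zero_add, add_zero, mul_one, mul_neg, neg_mul, diagonal_mul_diagonal, diagonal_add, ← diagonal_neg]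
  congr 1 <;> ext i j <;> fin_cases i <;> fin_cases j <;> simp [Matrix.one_apply, diagonal]
  all_goals first
    | linear_combination h A
    | linear_combination -(h A)
    | linear_combination h B
    | linear_combination -(h B)
    | linear_combination

/-- Two copies of `SL₂` inside `Sp₄`. -/
def spPair : SpecialLinearGroup (Fin 2) F × SpecialLinearGroup (Fin 2) F →* symplecticGroup (Fin 2) F where
  toFun x := ⟨pairMat x.1 x.2, pairMat_mem x.1 x.2⟩
  map_one' := Subtype.ext pairMat_one
  map_mul' x y := Subtype.ext (pairMat_mul _ _ _ _).symm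

theorem pairMat_eq_scalar {A B : Matrix (Fin 2) (Fin 2) F} {c : F}
    (h : pairMat A B = c • 1) : A = c • 1 ∧ B = c • 1 := by
  rw [← fromBlocks_one, fromBlocks_smul, pairMat, fromBlocks_inj] at h
  obtain ⟨h1, h2, h3, h4⟩ := h
  constructor <;> ext i j <;> fin_cases i <;> fin_cases j
  · simpa using congrFun (congrFun h1 0) 0
  · simpa using congrFun (congrFun h2 0) 0
  · simpa using congrFun (congrFun h3 0) 0
  · simpa using congrFun (congrFun h4 0) 0
  · simpa using congrFun (congrFun h1 1) 1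
  · simpa using congrFun (congrFun h2 1) 1
  · simpa using congrFun (congrFun h3 1) 1
  · simpa using congrFun (congrFun h4 1) 1

section field

variable {K : Type*} [Field K] [Algebra F K] [Algebra.IsSeparable F K] (b : Module.Basis (Fin 2) F K)

/-- The Gram matrix of the trace form. -/
noncomputable def gram : Matrix (Fin 2) (Fin 2) F := Algebra.traceMatrix F b

theorem gram_det : (gram b).det ≠ 0 := by
  haveI := Module.Finite.of_basis b
  exact Algebra.discr_not_zero_of_basis F b

theorem transpose_leftMul (z : K) :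
    (Algebra.leftMulMatrix b z)ᵀ = gram b * Algebra.leftMulMatrix b z * (gram b)⁻¹ := by
  have hu : IsUnit (gram b).det := (gram_det b).isUnit
  have hG : (gram b)ᵀ = gram b := by
    ext i j
    simp [gram, Algebra.traceMatrix_apply, Algebra.traceForm_apply, mul_comm]
  have hkey : ∀ i j, (gram b * Algebra.leftMulMatrix b z) i j = Algebra.trace F K (b i * (z * b j)) := by
    intro i j
    rw [Matrix.mul_apply]
    simp only [gram, Algebra.traceMatrix_apply, Algebra.traceForm_apply, Algebra.leftMulMatrix_eq_repr_mul]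
    conv_rhs => rw [← b.sum_repr (z * b j), Finset.mul_sum, map_sum]
    exact Finset.sum_congr rfl fun k _ => by rw [mul_smul_comm, map_smul, smul_eq_mul, mul_comm]
  have hsym : (gram b * Algebra.leftMulMatrix b z)ᵀ = gram b * Algebra.leftMulMatrix b z := by
    ext i j
    rw [Matrix.transpose_apply, hkey, hkey]
    congr 1
    ring
  rw [Matrix.transpose_mul, hG] at hsym
  rw [← hsym, Matrix.mul_nonsing_inv_cancel_right _ _ hu]

/-- `SL₂(K)` as four by four matrices over `F`. -/
noncomputable def fieldMat (x : Matrix (Fin 2) (Fin 2) K) : Matrix (Fin 2 ⊕ Fin 2) (Fin 2 ⊕ Fin 2) F :=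
  fromBlocks (Algebra.leftMulMatrix b (x 0 0)) (Algebra.leftMulMatrix b (x 0 1) * (gram b)⁻¹)
    (gram b * Algebra.leftMulMatrix b (x 1 0)) (gram b * Algebra.leftMulMatrix b (x 1 1) * (gram b)⁻¹)

theorem fieldMat_mul (x y : Matrix (Fin 2) (Fin 2) K) : fieldMat b (x * y) = fieldMat b x * fieldMat b y := by
  have hu : IsUnit (gram b).det := (gram_det b).isUnit
  simp only [fieldMat, fromBlocks_multiply, mul_assoc, Matrix.nonsing_inv_mul_cancel_left _ _ hu,
    Matrix.mul_apply, Fin.sum_univ_two, map_add, map_mul, mul_add, add_mul]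

theorem fieldMat_injective : Function.Injective (fieldMat b) := by
  intro x y h
  have hu : IsUnit (gram b).det := (gram_det b).isUnit
  rw [fieldMat, fieldMat, fromBlocks_inj] at h
  obtain ⟨h1, h2, h3, h4⟩ := h
  have hr := Algebra.leftMulMatrix_injective b
  ext i j
  fin_cases i <;> fin_cases j
  · exact hr h1
  · refine hr ?_
    have := congrArg (· * gram b) h2
    simpa [Matrix.nonsing_inv_mul_cancel_right _ _ hu] using this
  · refine hr ?_
    have := congrArg ((gram b)⁻¹ * ·) h3
    simpa [Matrix.nonsing_inv_mul_cancel_left _ _ hu] using this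
  · refine hr ?_
    have := congrArg (fun M => (gram b)⁻¹ * (M * gram b)) h4
    simpa [mul_assoc, Matrix.nonsing_inv_mul_cancel_left _ _ hu, Matrix.nonsing_inv_mul _ hu] using this

theorem fieldMat_smul_one (c : F) : fieldMat b (algebraMap F K c • 1) = c • 1 := by
  have hu : IsUnit (gram b).det := (gram_det b).isUnit
  rw [← fromBlocks_one, fromBlocks_smul, fieldMat]
  simp [Algebra.algebraMap_eq_smul_one, Matrix.mul_nonsing_inv _ hu]

theorem fieldMat_mem (x : SpecialLinearGroup (Fin 2) K) :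
    fieldMat b (x : Matrix (Fin 2) (Fin 2) K) ∈ symplecticGroup (Fin 2) F := by
  have hu : IsUnit (gram b).det := (gram_det b).isUnit
  have hdet : (x : Matrix (Fin 2) (Fin 2) K) 0 0 * (x : Matrix (Fin 2) (Fin 2) K) 1 1 -
      (x : Matrix (Fin 2) (Fin 2) K) 0 1 * (x : Matrix (Fin 2) (Fin 2) K) 1 0 = 1 := by
    rw [← Matrix.det_fin_two]; exact x.2
  have hG : ((gram b)⁻¹)ᵀ = (gram b)⁻¹ := by
    rw [Matrix.transpose_nonsing_inv]
    congr 1
    ext i j
    simp [gram, Algebra.traceMatrix_apply, Algebra.traceForm_apply, mul_comm]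
  have hG' : (gram b)ᵀ = gram b := by
    ext i j
    simp [gram, Algebra.traceMatrix_apply, Algebra.traceForm_apply, mul_comm]
  rw [SymplecticGroup.mem_iff]
  simp only [fieldMat, J, fromBlocks_transpose, fromBlocks_multiply, Matrix.transpose_mul, transpose_leftMul,
    hG, hG', mul_zero, zero_mul, zero_add, add_zero, mul_one, mul_neg, neg_mul, mul_assoc,
    Matrix.nonsing_inv_mul_cancel_left _ _ hu, Matrix.mul_nonsing_inv_cancel_left _ _ hu,
    Matrix.nonsing_inv_mul _ hu]
  set G := gram b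
  set R := Algebra.leftMulMatrix b
  set x00 := (x : Matrix (Fin 2) (Fin 2) K) 0 0
  set x01 := (x : Matrix (Fin 2) (Fin 2) K) 0 1
  set x10 := (x : Matrix (Fin 2) (Fin 2) K) 1 0
  set x11 := (x : Matrix (Fin 2) (Fin 2) K) 1 1
  have e : R x00 * R x11 - R x01 * R x10 = 1 := by rw [← map_mul, ← map_mul, ← map_sub, hdet, map_one]
  have c : ∀ u v, R u * R v = R v * R u := fun u v => by rw [← map_mul, mul_comm, map_mul]
  congr 1
  · rw [← mul_assoc, ← mul_assoc, c x01 x00, add_neg_cancel]
  · rw [← e]; abel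
  · rw [← mul_assoc (R x11), ← mul_assoc (R x10), ← sub_eq_add_neg, ← mul_sub, ← sub_mul, c x11 x00, c x10 x01, e,
      one_mul, Matrix.mul_nonsing_inv _ hu]
  · rw [c x10 x11, add_neg_cancel]

/-- `SL₂(K)` inside `Sp₄(F)`. -/
noncomputable def spField : SpecialLinearGroup (Fin 2) K →* symplecticGroup (Fin 2) F where
  toFun x := ⟨fieldMat b x, fieldMat_mem b x⟩
  map_one' := Subtype.ext (by
    show fieldMat b (1 : Matrix (Fin 2) (Fin 2) K) = 1
    simpa using fieldMat_smul_one b (1 : F))
  map_mul' x y := Subtype.ext (fieldMat_mul b _ _)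

end field

/-- The unipotent element of order four. -/
def fourMat : Matrix (Fin 2 ⊕ Fin 2) (Fin 2 ⊕ Fin 2) F :=
  fromBlocks !![1, 1; 0, 1] !![0, 1; 0, 1] 0 !![1, 0; -1, 1]

theorem fourMat_mem : (fourMat : Matrix (Fin 2 ⊕ Fin 2) (Fin 2 ⊕ Fin 2) F) ∈ symplecticGroup (Fin 2) F := by
  rw [SymplecticGroup.mem_iff]
  ext (i | i) (j | j) <;> fin_cases i <;> fin_cases j <;>
    simp [fourMat, J, Matrix.mul_apply, Fintype.sum_sum_type, Fin.sum_univ_two]

theorem exists_psp_four_orders [Fintype F] (p : ℕ) [Fact p.Prime] [CharP F p] {e Hm Hp : ℕ} (he : e ∣ 2)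
    (he2 : p = 2 → e = 1) (he2' : p ≠ 2 → e = 2)
    (hm : e * Hm = Fintype.card F ^ 2 - 1) (hp : e * Hp = Fintype.card F ^ 2 + 1) :
    ∀ M ∈ specList p (Fintype.card F) Hm Hp, ∃ g : Cfsg.PSp 2 F, M ∣ orderOf g := by
  haveI : Nonempty (Fin 2 ⊕ Fin 2) := ⟨.inl 0⟩
  set q := Fintype.card F with hq
  obtain ⟨m, hpr, hqm⟩ := FiniteField.card F p
  rw [← hq] at hqm
  have hq1 : 1 < q := Fintype.one_lt_card
  have hscal : ∀ (g : symplecticGroup (Fin 2) F) (n : ℕ), (QuotientGroup.mk g : Cfsg.PSp 2 F) ^ n = 1 →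
      ∃ c : F, (c = 1 ∨ c = -1) ∧ ((g ^ n : symplecticGroup (Fin 2) F) : Matrix (Fin 2 ⊕ Fin 2) (Fin 2 ⊕ Fin 2) F) = c • 1 := by
    intro g n h
    rw [Spectrum.pspMk_pow_eq_one_iff one_le_two] at h
    rcases h with h | h
    · exact ⟨1, Or.inl rfl, by rw [SubmonoidClass.coe_pow, h, one_smul]⟩
    · exact ⟨-1, Or.inr rfl, by rw [SubmonoidClass.coe_pow, h, neg_smul, one_smul]⟩
  -- the two tori inside `SL₂(q²)`
  let K := FiniteField.Extension F p 2
  haveI : CharP K p := charP_of_injective_algebraMap (algebraMap F K).injective p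
  haveI : Fintype K := Fintype.ofFinite K
  haveI : Module.Finite F K := .of_finite
  have hKc : Fintype.card K = q ^ 2 := by
    rw [← Nat.card_eq_fintype_card, FiniteField.natCard_extension, Nat.card_eq_fintype_card]
  let b : Module.Basis (Fin 2) F K := Module.finBasisOfFinrankEq F K (FiniteField.finrank_extension F p 2)
  have tori : ∀ H, (e * H ∣ Fintype.card K - 1 ∨ e * H ∣ Fintype.card K + 1) →
      ∃ g : Cfsg.PSp 2 F, H ∣ orderOf g := by
    intro H hH
    obtain ⟨x, l, hlo, hlr⟩ := exists_sl2_eigen (K := K) p hH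
    refine ⟨QuotientGroup.mk (spField b x), ?_⟩
    obtain ⟨c, hc, hn⟩ := hscal (spField b x) _ (pow_orderOf_eq_one _)
    rw [← map_pow] at hn
    have hx : ((x : Matrix (Fin 2) (Fin 2) K)) ^ orderOf (QuotientGroup.mk (spField b x) : Cfsg.PSp 2 F) =
        algebraMap F K c • 1 := by
      refine fieldMat_injective b ?_
      rw [fieldMat_smul_one, ← hn]
      exact congrArg (fieldMat b) (Matrix.SpecialLinearGroup.coe_pow x _).symm
    have hl := root_pow_eq _ hlr hx
    have h1 : l ^ (e * orderOf (QuotientGroup.mk (spField b x) : Cfsg.PSp 2 F)) = 1 := by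
      rw [mul_comm, pow_mul, hl]
      rcases hc with rfl | rfl
      · simp
      · rcases eq_or_ne p 2 with h2 | h2
        · subst h2; rw [he2 rfl, CharTwo.neg_eq]; simp
        · rw [he2' h2]; simp
    have he0 : 0 < e := Nat.pos_of_dvd_of_pos he two_pos
    exact (Nat.mul_dvd_mul_iff_left he0).1 (hlo ▸ orderOf_dvd_of_pow_eq_one h1)
  -- mixed elements
  have mixed : ∀ T, (T ∣ Fintype.card F - 1 ∨ T ∣ Fintype.card F + 1) →
      ∃ g : Cfsg.PSp 2 F, p * T ∣ orderOf g := by
    intro T hT
    obtain ⟨x, l, hlo, hlr⟩ := exists_sl2_eigen (K := F) p hT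
    let u : SpecialLinearGroup (Fin 2) F := ⟨!![1, 1; 0, 1], by simp [Matrix.det_fin_two_of]⟩
    refine ⟨QuotientGroup.mk (spPair (x, u)), ?_⟩
    set n := orderOf (QuotientGroup.mk (spPair (x, u)) : Cfsg.PSp 2 F)
    obtain ⟨c, hc, hn⟩ := hscal (spPair (x, u)) n (pow_orderOf_eq_one _)
    rw [← map_pow] at hn
    obtain ⟨hx, hu⟩ := pairMat_eq_scalar hn
    have hun : ∀ k : ℕ, ((u ^ k : SpecialLinearGroup (Fin 2) F) : Matrix (Fin 2) (Fin 2) F) = !![1, (k : F); 0, 1] := by
      intro k
      induction k with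
      | zero => ext i j; fin_cases i <;> fin_cases j <;> simp
      | succ k ih =>
        rw [pow_succ]
        refine ((u ^ k).coe_mul u).trans ?_
        rw [ih]
        ext i j; fin_cases i <;> fin_cases j <;> simp [u, add_comm]
    rw [Prod.pow_mk, hun] at hu
    have hc1 : c = 1 := by simpa using (congrFun (congrFun hu 0) 0).symm
    have hk : (n : F) = 0 := by simpa using congrFun (congrFun hu 0) 1
    rw [Prod.pow_mk, hc1] at hx
    have h1 := root_pow_eq _ hlr ((Matrix.SpecialLinearGroup.coe_pow x n).symm.trans hx)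
    rw [map_one] at h1
    refine Nat.Coprime.mul_dvd_of_dvd_of_dvd ?_ ((CharP.cast_eq_zero_iff F p n).1 hk)
      (hlo ▸ orderOf_dvd_of_pow_eq_one h1)
    rw [hpr.coprime_iff_not_dvd]
    intro hpT
    have hpq : p ∣ q := hqm ▸ dvd_pow_self p m.pos.ne'
    rcases hT with hT | hT
    · have := Nat.dvd_sub hpq (hpT.trans hT)
      rw [← hq, show q - (q - 1) = 1 by omega] at this
      exact hpr.one_lt.ne' (Nat.dvd_one.1 this)
    · have := Nat.dvd_sub (hpT.trans hT) hpq
      rw [← hq, show q + 1 - q = 1 by omega] at this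
      exact hpr.one_lt.ne' (Nat.dvd_one.1 this)
  intro M hM
  simp only [specList, Finset.mem_insert, Finset.mem_singleton] at hM
  rcases hM with rfl | rfl | rfl | rfl | rfl
  · exact tori M (Or.inl (by rw [hKc, hm]))
  · exact tori M (Or.inr (by rw [hKc, hp]))
  · exact mixed _ (Or.inl dvd_rfl)
  · exact mixed _ (Or.inr dvd_rfl)
  · rcases eq_or_ne p 2 with h2 | h2
    · subst h2
      refine ⟨QuotientGroup.mk ⟨fourMat, fourMat_mem⟩, ?_⟩
      rw [show Nat.clog 2 4 = 1 + 1 from Nat.clog_pow 2 2 one_lt_two]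
      haveI : CharP (Matrix (Fin 2 ⊕ Fin 2) (Fin 2 ⊕ Fin 2) F) 2 := charP_of_injective_algebraMap' F 2
      refine dvd_of_eq (orderOf_eq_prime_pow ?_ ?_).symm
      · rw [Spectrum.pspMk_pow_eq_one_iff one_le_two, pow_one, sq]
        rintro (h | h) <;>
          simpa [fourMat, fromBlocks_multiply, Matrix.mul_apply, Fin.sum_univ_two, Matrix.one_apply,
            CharTwo.two_eq_zero] using congrFun (congrFun h (.inl 0)) (.inr 0)
      · rw [Spectrum.pspMk_pow_eq_one_iff one_le_two]
        left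
        rw [show 2 ^ (1 + 1) = 2 * 2 from rfl, pow_mul]
        ext (i | i) (j | j) <;> fin_cases i <;> fin_cases j <;>
          simp [sq, fourMat, fromBlocks_multiply, Matrix.mul_apply, Fintype.sum_sum_type, Fin.sum_univ_two,
            Matrix.one_apply, CharTwo.add_self_eq_zero, CharTwo.neg_eq]
    · have h2F : (2 : F) ≠ 0 := by
        intro h
        have := (CharP.cast_eq_zero_iff F p 2).1 (by exact_mod_cast h)
        exact h2 ((Nat.prime_dvd_prime_iff_eq hpr Nat.prime_two).1 this)
      obtain ⟨g, hg⟩ := Spectrum.exists_orderOf_unipotent (F := F) p one_le_two h2F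
      exact ⟨g, dvd_of_eq hg.symm⟩

end CfsgLib.PSpFourSpec
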