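import Cfsg.Agent.Lib.PSpFourSpec.TensorAction
import Mathlib.FieldTheory.Finite.GaloisField

/-!
Extensions of copies of the natural module of `O₄⁻(q)` with the spectrum of `PSp₄(q)`, `p ≠ 3`.
-/

set_option autoImplicit false

namespace CfsgLib.PSpFourSpec

open Polynomial Matrix Kronecker

section

variable {K : Type} [Field K] (p m : ℕ) [Fact p.Prime] [CharP K p]

/-- The twisted matrix. -/
def twist (x : SpecialLinearGroup (Fin 2) K) : SpecialLinearGroup (Fin 2) K :=
  SpecialLinearGroup.map (iterateFrobenius K p m) x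

theorem coe_twist (x : SpecialLinearGroup (Fin 2) K) :
    (twist p m x : Matrix (Fin 2) (Fin 2) K) = (x : Matrix (Fin 2) (Fin 2) K).map (iterateFrobenius K p m) := rfl

/-- The natural module of `O₄⁻`. -/
def natM : SpecialLinearGroup (Fin 2) K →* Matrix (Fin 2 × Fin 2) (Fin 2 × Fin 2) K where
  toFun x := (x : Matrix (Fin 2) (Fin 2) K) ⊗ₖ (twist p m x : Matrix (Fin 2) (Fin 2) K)
  map_one' := by
    rw [coe_twist, Matrix.SpecialLinearGroup.coe_one, Matrix.map_one _ (map_zero _) (map_one _),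
      Matrix.one_kronecker_one]
  map_mul' x y := by
    rw [coe_twist, coe_twist, coe_twist, Matrix.SpecialLinearGroup.coe_mul, Matrix.map_mul,
      Matrix.mul_kronecker_mul]

/-- The representation in the automorphism group. -/
noncomputable def rho : SpecialLinearGroup (Fin 2) K →* (Module.End K (Fin 2 × Fin 2 → K))ˣ :=
  toAut (natM p m)

theorem natM_scalar {x : SpecialLinearGroup (Fin 2) K} {c : K} (hc : c = 1 ∨ c = -1)
    (h : (x : Matrix (Fin 2) (Fin 2) K) = c • 1) : natM p m x = 1 := by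
  show (x : Matrix (Fin 2) (Fin 2) K) ⊗ₖ (twist p m x : Matrix (Fin 2) (Fin 2) K) = 1
  rw [coe_twist, h]
  rcases hc with rfl | rfl
  · rw [one_smul, Matrix.map_one _ (map_zero _) (map_one _), Matrix.one_kronecker_one]
  · ext ⟨i, j⟩ ⟨k, l⟩
    fin_cases i <;> fin_cases j <;> fin_cases k <;> fin_cases l <;> simp

theorem rho_pow_eq_one {x : SpecialLinearGroup (Fin 2) K} {n : ℕ} {c : K} (hc : c = 1 ∨ c = -1)
    (h : (x : Matrix (Fin 2) (Fin 2) K) ^ n = c • 1) : rho p m x ^ n = 1 := by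
  rw [← map_pow, rho, toAut_eq_one]
  exact natM_scalar p m hc ((Matrix.SpecialLinearGroup.coe_pow x n).trans h)

theorem isDiag_natM (x : SpecialLinearGroup (Fin 2) K) {l : AlgebraicClosure K}
    (hl : aeval l (x : Matrix (Fin 2) (Fin 2) K).charpoly = 0) (hne : l ≠ l⁻¹) :
    IsDiag ((natM p m x).map (algebraMap K (AlgebraicClosure K)))
      (fun i => ![l, l⁻¹] i.1 * ![l, l⁻¹] i.2 ^ p ^ m) := by
  haveI : CharP (AlgebraicClosure K) p :=
    charP_of_injective_algebraMap (algebraMap K (AlgebraicClosure K)).injective p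
  have h := isDiag_sl2 x hl hne
  have h2 := h.kronecker (h.map (iterateFrobenius (AlgebraicClosure K) p m))
  rw [← map_frob p m, ← coe_twist, ← kronecker_map_alg] at h2
  simpa [iterateFrobenius_def, natM] using h2

theorem two_mul_pow_eq_one {x : SpecialLinearGroup (Fin 2) K} {l : AlgebraicClosure K}
    (hl : aeval l (x : Matrix (Fin 2) (Fin 2) K).charpoly = 0) (hne : l ≠ l⁻¹) {n : ℕ}
    (h : rho p m x ^ n = 1) : l ^ (2 * n) = 1 := by
  rw [← map_pow, rho, toAut_eq_one, map_pow] at h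
  have hd := isDiag_natM p m x hl hne
  have h' := congrArg (fun A => (algebraMap K (AlgebraicClosure K)).mapMatrix A) h
  simp only [map_pow, map_one] at h'
  have a := hd.pow_eq_one h' (0, 0)
  have b := hd.pow_eq_one h' (0, 1)
  simp only [Matrix.cons_val_zero, Matrix.cons_val_one, inv_pow, mul_pow] at a b
  have hl0 : l ≠ 0 := by rintro rfl; exact hne (_root_.inv_zero).symm
  have := congrArg₂ (· * ·) a b
  rw [one_mul] at this
  rw [← this, two_mul, pow_add]
  field_simp

theorem natM_sub_one_cube {x : SpecialLinearGroup (Fin 2) K} {c : K} (hc : c = 1 ∨ c = -1)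
    (h : ((x : Matrix (Fin 2) (Fin 2) K) - c • 1) ^ 2 = 0) : (natM p m x - 1) ^ 3 = 0 := by
  set φ := iterateFrobenius K p m
  set E := c • ((x : Matrix (Fin 2) (Fin 2) K) - c • 1) with hE
  have hc2 : c * c = 1 := by rcases hc with rfl | rfl <;> simp
  have hφc : φ c = c := by rcases hc with rfl | rfl <;> simp
  have hEE : E * E = 0 := by
    rw [hE, smul_mul_smul_comm, hc2, one_smul, ← sq]; exact h
  have hx : c • (x : Matrix (Fin 2) (Fin 2) K) = 1 + E := by
    rw [hE, smul_sub, smul_smul, hc2, one_smul]; abel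
  have hx' : c • (twist p m x : Matrix (Fin 2) (Fin 2) K) = 1 + E.map φ := by
    rw [coe_twist]
    have := congrArg (fun A : Matrix (Fin 2) (Fin 2) K => φ.mapMatrix A) hx
    simp only [map_add, map_one] at this
    rw [show E.map φ = φ.mapMatrix E from rfl, ← this]
    ext i j
    simp [hφc, φ]
  have hM : natM p m x = (1 + E ⊗ₖ (1 : Matrix (Fin 2) (Fin 2) K)) *
      (1 + (1 : Matrix (Fin 2) (Fin 2) K) ⊗ₖ E.map φ) := by
    rw [← Matrix.one_kronecker_one, ← Matrix.add_kronecker, ← Matrix.kronecker_add,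
      ← Matrix.mul_kronecker_mul, mul_one, one_mul, ← hx, ← hx', Matrix.smul_kronecker,
      Matrix.kronecker_smul, smul_smul, hc2, one_smul]
    rfl
  rw [hM]
  refine cube_eq_zero ?_ ?_ ?_
  · rw [← Matrix.mul_kronecker_mul, ← Matrix.mul_kronecker_mul, mul_one, one_mul, mul_one, one_mul]
  · rw [← Matrix.mul_kronecker_mul, hEE, Matrix.zero_kronecker]
  · rw [← Matrix.mul_kronecker_mul, ← Matrix.map_mul, hEE, Matrix.map_zero _ (map_zero _),
      Matrix.kronecker_zero]

variable [Fintype K]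

theorem coe_pow_sub (hp5 : 5 ≤ p) (g : (Module.End K (Fin 2 × Fin 2 → K))ˣ) {x : SpecialLinearGroup (Fin 2) K}
    {d : ℕ} (hg : g ^ d = rho p m x) {c : K} (hc : c = 1 ∨ c = -1)
    (h : ((x : Matrix (Fin 2) (Fin 2) K) - c • 1) ^ 2 = 0) :
    ∑ j ∈ Finset.range (d * p), (g : Module.End K (Fin 2 × Fin 2 → K)) ^ j = 0 := by
  haveI : CharP (Module.End K (Fin 2 × Fin 2 → K)) p := charP_of_injective_algebraMap' K p
  refine geom_sum_eq_zero p _ d (pow_eq_zero_of_le (show 3 ≤ p - 1 by omega) ?_)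
  rw [← Units.val_pow_eq_pow_val, hg, rho, coe_toAut, ← map_one (Matrix.toLinAlgEquiv'
    (R := K) (n := Fin 2 × Fin 2)), ← map_sub, ← map_pow, natM_sub_one_cube p m hc h, map_zero]

/-- Facts about one inner element. -/
theorem inner_cases (hK : Fintype.card K = p ^ (m * 2)) {e Hm Hp : ℕ} (he : e ∣ 2)
    (hm : e * Hm = p ^ (m * 2) - 1) (hp : e * Hp = p ^ (m * 2) + 1) (x : SpecialLinearGroup (Fin 2) K) :
    (∃ c : K, (c = 1 ∨ c = -1) ∧ ((x : Matrix (Fin 2) (Fin 2) K) - c • 1) ^ 2 = 0 ∧ rho p m x ^ p = 1) ∨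
      ((rho p m x ^ Hm = 1 ∨ rho p m x ^ Hp = 1) ∧
        ((∃ v : Fin 2 × Fin 2 → K, v ≠ 0 ∧ rho p m x • v = v) →
          rho p m x ^ (p ^ m - 1) = 1 ∨ rho p m x ^ (p ^ m + 1) = 1)) := by
  by_cases hu : ∃ c : K, (c = 1 ∨ c = -1) ∧ ((x : Matrix (Fin 2) (Fin 2) K) - c • 1) ^ 2 = 0
  · left
    obtain ⟨c, hc, h⟩ := hu
    refine ⟨c, hc, h, ?_⟩
    have h2 := pow_char_pow_eq p (k := 1) (by simpa using (Fact.out : p.Prime).two_le) h
    rw [pow_one] at h2
    refine rho_pow_eq_one p m (c := c ^ p) ?_ h2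
    rcases hc with rfl | rfl
    · exact Or.inl (one_pow _)
    · exact neg_one_pow_eq_or K _
  right
  refine ⟨?_, ?_⟩
  · rcases (sl2_cases p x rfl he (by rw [← hK]; exact FiniteField.pow_card _)).resolve_left hu with h | h
    · obtain ⟨c, hc, h'⟩ := h _ hm
      exact Or.inl (rho_pow_eq_one p m hc h')
    · obtain ⟨c, hc, h'⟩ := h _ hp
      exact Or.inr (rho_pow_eq_one p m hc h')
  · rintro ⟨v, hv, hgv⟩
    let L := AlgebraicClosure K
    obtain ⟨l, hl0, hls⟩ := quad_root (algebraMap K L (x : Matrix (Fin 2) (Fin 2) K).trace)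
    have hch : (x : Matrix (Fin 2) (Fin 2) K).charpoly.map (algebraMap K L) = (X - C l) * (X - C l⁻¹) := by
      rw [charpoly_two, ← quad_eq hl0 hls]; simp
    have hne : l ≠ l⁻¹ := fun hll => by
      have h1 : l ^ 2 = 1 := by rw [sq]; nth_rw 1 [hll]; exact inv_mul_cancel₀ hl0
      obtain ⟨c, hc, hlc⟩ : ∃ c : K, (c = 1 ∨ c = -1) ∧ algebraMap K L c = l := by
        rcases sq_eq_one_iff.1 h1 with h2 | h2
        · exact ⟨1, Or.inl rfl, by rw [map_one, h2]⟩
        · exact ⟨-1, Or.inr rfl, by rw [map_neg, map_one, h2]⟩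
      refine hu ⟨c, hc, ?_⟩
      have := sub_pow_eq_zero (L := L) (x : Matrix (Fin 2) (Fin 2) K) (n := 1) (a := 2) (c := c)
        (by rw [hch, ← hll, hlc, pow_one, sq])
      simpa using this
    have hl : aeval l (x : Matrix (Fin 2) (Fin 2) K).charpoly = 0 := by
      rw [aeval_def, ← eval_map, hch]; simp
    have hd := isDiag_natM p m x hl hne
    rw [rho, toAut_smul] at hgv
    obtain ⟨⟨i, j⟩, hij⟩ := hd.exists_eq_one (v := fun i => algebraMap K L (v i))
      (fun h0 => hv (funext fun i => (algebraMap K L).injective (by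
        rw [Pi.zero_apply, map_zero]; exact congrFun h0 i)))
      (funext fun i => by
        have := congrArg (algebraMap K L) (congrFun hgv i)
        rw [RingHom.map_mulVec] at this
        exact this)
    set q := p ^ m with hq
    have hq1 : 1 ≤ q := Nat.one_le_pow _ _ (Fact.out : p.Prime).pos
    have finish : ∀ T, l ^ T = 1 → rho p m x ^ T = 1 := fun T hT =>
      rho_pow_eq_one p m (Or.inl rfl) (pow_eq_of_dvd (L := L) _ (by
        rw [hch, map_one]
        exact X_sub_C_mul_dvd hne (X_sub_C_dvd_of_pow hT) (X_sub_C_dvd_of_pow (by rw [inv_pow, hT, inv_one]))))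
    fin_cases i <;> fin_cases j <;>
      simp only [Fin.zero_eta, Fin.mk_one, Fin.isValue, Matrix.cons_val_zero, Matrix.cons_val_one, inv_pow] at hij
    · exact Or.inr (finish _ (by rw [pow_succ', hij]))
    · refine Or.inl (finish _ (mul_right_cancel₀ hl0 ?_))
      rw [← pow_succ, Nat.sub_add_cancel hq1, one_mul]
      exact ((mul_inv_eq_one₀ (pow_ne_zero _ hl0)).1 hij).symm
    · refine Or.inl (finish _ (mul_right_cancel₀ hl0 ?_))
      rw [← pow_succ, Nat.sub_add_cancel hq1, one_mul]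
      exact ((inv_mul_eq_one₀ hl0).1 hij).symm
    · refine Or.inr (finish _ ?_)
      rw [← mul_inv, inv_eq_one] at hij
      rw [pow_succ', hij]

theorem fixed_of_nm {X W : Type} [Group X] [AddCommGroup W] [DistribMulAction X W] {g : X} {w : W}
    (h : ModuleExt.nm g w ≠ 0) : ∃ v : W, v ≠ 0 ∧ g • v = v := ⟨_, h, smul_nm g w⟩

end

section extended

variable {K : Type} [Field K] (p m : ℕ) [Fact p.Prime] [CharP K p]

/-- The transposition on the module. -/
def swapU : (Module.End K (Fin 2 × Fin 2 → K))ˣ where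
  val := LinearMap.funLeft K K Prod.swap
  inv := LinearMap.funLeft K K Prod.swap
  val_inv := LinearMap.ext fun v => funext fun i => by simp [LinearMap.funLeft_apply]
  inv_val := LinearMap.ext fun v => funext fun i => by simp [LinearMap.funLeft_apply]

theorem swapU_smul (v : Fin 2 × Fin 2 → K) (i : Fin 2 × Fin 2) :
    ((swapU : (Module.End K (Fin 2 × Fin 2 → K))ˣ) • v) i = v i.swap := rfl

theorem swapU_mul_self : (swapU : (Module.End K (Fin 2 × Fin 2 → K))ˣ) * swapU = 1 :=
  Units.ext swapU.val_inv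

variable (hφ : ∀ a : K, iterateFrobenius K p m (iterateFrobenius K p m a) = a)
include hφ

theorem twist_twist (x : SpecialLinearGroup (Fin 2) K) : twist p m (twist p m x) = x := by
  apply Subtype.ext
  ext i j
  exact hφ _

theorem swapU_mul_rho (x : SpecialLinearGroup (Fin 2) K) :
    (swapU : (Module.End K (Fin 2 × Fin 2 → K))ˣ) * rho p m x = rho p m (twist p m x) * swapU := by
  refine Units.ext (LinearMap.ext fun v => funext fun i => ?_)
  show ((swapU : (Module.End K (Fin 2 × Fin 2 → K))ˣ) • (rho p m x • v)) i =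
    (rho p m (twist p m x) • (swapU : (Module.End K (Fin 2 × Fin 2 → K))ˣ) • v) i
  rw [swapU_smul, rho, toAut_smul, toAut_smul]
  simp only [Matrix.mulVec, dotProduct]
  rw [← (Equiv.prodComm (Fin 2) (Fin 2)).sum_comp]
  refine Finset.sum_congr rfl fun j _ => ?_
  rw [Equiv.prodComm_apply, swapU_smul]
  show ((x : Matrix (Fin 2) (Fin 2) K) ⊗ₖ (twist p m x : Matrix (Fin 2) (Fin 2) K)) _ _ * _ =
    ((twist p m x : Matrix (Fin 2) (Fin 2) K) ⊗ₖ (twist p m (twist p m x) : Matrix (Fin 2) (Fin 2) K)) _ _ * _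
  rw [twist_twist p m hφ]
  simp [mul_comm]

theorem outer_mul (x y : SpecialLinearGroup (Fin 2) K) :
    rho p m x * swapU * (rho p m y * swapU) = rho p m (x * twist p m y) := by
  rw [map_mul, mul_assoc, ← mul_assoc swapU, swapU_mul_rho p m hφ, mul_assoc (rho p m (twist p m y)),
    swapU_mul_self, mul_one]

theorem outer_ne_one (x : SpecialLinearGroup (Fin 2) K) : rho p m x * swapU ≠ 1 := by
  intro h
  have h' : ∀ v : Fin 2 × Fin 2 → K,
      rho p m x • ((swapU : (Module.End K (Fin 2 × Fin 2 → K))ˣ) • v) = v := fun v => by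
    rw [← mul_smul, h, one_smul]
  set φ := iterateFrobenius K p m
  set z := (x : Matrix (Fin 2) (Fin 2) K)
  have val : ∀ (a b : Fin 2 × Fin 2), z a.1 b.2 * φ (z a.2 b.1) = (Pi.single b 1 : Fin 2 × Fin 2 → K) a := by
    intro a b
    have := congrFun (h' (Pi.single b 1)) a
    rw [← this, rho, toAut_smul, Matrix.mulVec, dotProduct, Finset.sum_eq_single b.swap]
    · rw [swapU_smul, Prod.swap_swap, Pi.single_eq_same, mul_one]
      rfl
    · intro c _ hc
      rw [swapU_smul, Pi.single_eq_of_ne (fun hh => hc (by rw [← hh, Prod.swap_swap])), mul_zero]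
    · simp
  have e1 := val (0, 0) (0, 0)
  have e2 := val (0, 1) (0, 0)
  have e3 := val (0, 1) (0, 1)
  simp only [Pi.single_eq_same, ne_eq, Prod.mk.injEq, one_ne_zero, and_false, not_false_eq_true,
    Pi.single_eq_of_ne] at e1 e2 e3
  rcases mul_eq_zero.1 e2 with e | e
  · rw [e, zero_mul] at e1
    exact zero_ne_one e1
  · rw [e, mul_zero] at e3
    exact zero_ne_one e3

/-- The extension of `L₂(q²)` by the field automorphism, inside `O₄⁻(q)`. -/
def bigX [Finite K] : Subgroup (Module.End K (Fin 2 × Fin 2 → K))ˣ where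
  carrier := {g | ∃ x, g = rho p m x ∨ g = rho p m x * swapU}
  one_mem' := ⟨1, Or.inl (map_one _).symm⟩
  mul_mem' := by
    rintro a b ⟨x, rfl | rfl⟩ ⟨y, rfl | rfl⟩
    · exact ⟨x * y, Or.inl (map_mul _ _ _).symm⟩
    · exact ⟨x * y, Or.inr (by rw [map_mul, mul_assoc])⟩
    · exact ⟨x * twist p m y, Or.inr (by
        rw [map_mul, mul_assoc, swapU_mul_rho p m hφ, mul_assoc])⟩
    · exact ⟨x * twist p m y, Or.inl (outer_mul p m hφ x y)⟩
  inv_mem' := by
    rintro a ⟨x, rfl | rfl⟩
    · exact ⟨x⁻¹, Or.inl (map_inv _ _).symm⟩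
    · refine ⟨(twist p m x)⁻¹, Or.inr ?_⟩
      refine inv_eq_of_mul_eq_one_right ?_
      rw [outer_mul p m hφ]
      have : twist p m (twist p m x)⁻¹ = (twist p m (twist p m x))⁻¹ := map_inv _ _
      rw [this, twist_twist p m hφ, mul_inv_cancel, map_one]

end extended

end CfsgLib.PSpFourSpec
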