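import Cfsg.Agent.Lib.PSpFourSpec.Natural

/-!
The witnesses for `p = 2` and `p ≥ 5`.
-/

set_option autoImplicit false

namespace CfsgLib.PSpFourSpec

open Polynomial Matrix Kronecker

variable {K : Type} [Field K] (p m : ℕ) [Fact p.Prime] [CharP K p]

theorem nm_eq_zero_of_sum {X : Subgroup (Module.End K (Fin 2 × Fin 2 → K))ˣ} (g : X) {n : ℕ}
    (hn : orderOf g = n)
    (h : ∑ j ∈ Finset.range n, ((g : (Module.End K (Fin 2 × Fin 2 → K))ˣ) : Module.End K (Fin 2 × Fin 2 → K)) ^ j = 0)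
    (w : Fin 2 × Fin 2 → K) : ModuleExt.nm g w = 0 := by
  have := LinearMap.congr_fun h w
  rw [LinearMap.zero_apply, LinearMap.sum_apply] at this
  rw [ModuleExt.nm, hn, ← this]
  refine Finset.sum_congr rfl fun j _ => ?_
  show ((((g ^ j : X) : (Module.End K (Fin 2 × Fin 2 → K))ˣ)) : Module.End K (Fin 2 × Fin 2 → K)) w = _
  rw [SubgroupClass.coe_pow, Units.val_pow_eq_pow_val]

theorem eigen_ne_inv {L : Type*} [Field L] {l : L} (h3 : 3 ≤ orderOf l) : l ≠ l⁻¹ := by
  intro h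
  have hl : l ≠ 0 := by rintro rfl; simp [orderOf_zero] at h3
  have : l ^ 2 = 1 := by rw [sq]; nth_rw 1 [h]; exact inv_mul_cancel₀ hl
  have := Nat.le_of_dvd two_pos (orderOf_dvd_of_pow_eq_one this)
  omega

theorem pow_eq_one_of_eigen (x : SpecialLinearGroup (Fin 2) K) {l : AlgebraicClosure K}
    (hl : aeval l (x : Matrix (Fin 2) (Fin 2) K).charpoly = 0) (hne : l ≠ l⁻¹) {T : ℕ} (hT : l ^ T = 1) :
    rho p m x ^ T = 1 := by
  let L := AlgebraicClosure K
  have hl0 : l ≠ 0 := by rintro rfl; exact hne (_root_.inv_zero).symm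
  rw [charpoly_two] at hl
  simp only [map_add, map_sub, map_mul, map_pow, aeval_X, aeval_C, map_one] at hl
  have hls : l + l⁻¹ = algebraMap K L (x : Matrix (Fin 2) (Fin 2) K).trace := by
    field_simp
    linear_combination hl
  have hch : (x : Matrix (Fin 2) (Fin 2) K).charpoly.map (algebraMap K L) = (X - C l) * (X - C l⁻¹) := by
    rw [charpoly_two, ← quad_eq hl0 hls]; simp
  exact rho_pow_eq_one p m (Or.inl rfl) (pow_eq_of_dvd (L := L) _ (by
    rw [hch, map_one]
    exact X_sub_C_mul_dvd hne (X_sub_C_dvd_of_pow hT) (X_sub_C_dvd_of_pow (by rw [inv_pow, hT, inv_one]))))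

theorem exists_fixed (x : SpecialLinearGroup (Fin 2) K) {u : Fin 2 × Fin 2 → AlgebraicClosure K}
    (hd : IsDiag ((natM p m x).map (algebraMap K (AlgebraicClosure K))) u) {i : Fin 2 × Fin 2} (hi : u i = 1) :
    ∃ v : Fin 2 × Fin 2 → K, v ≠ 0 ∧ rho p m x • v = v := by
  obtain ⟨P, hP, hP'⟩ := hd
  have h0 : ((natM p m x).map (algebraMap K (AlgebraicClosure K)) - 1).det = 0 := by
    have h1 : ((natM p m x).map (algebraMap K (AlgebraicClosure K)) - 1) * P = P * (diagonal u - 1) := by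
      rw [sub_mul, mul_sub, hP', one_mul, mul_one]
    have h2 := congrArg Matrix.det h1
    rw [det_mul, det_mul, show (diagonal u - 1 : Matrix (Fin 2 × Fin 2) (Fin 2 × Fin 2) (AlgebraicClosure K)) =
      diagonal (fun j => u j - 1) by rw [← diagonal_one, diagonal_sub], det_diagonal,
      Finset.prod_eq_zero (Finset.mem_univ i) (by rw [hi, sub_self]), mul_zero, mul_eq_zero] at h2
    exact h2.resolve_right hP
  have h0' : (natM p m x - 1).det = 0 := by
    apply (algebraMap K (AlgebraicClosure K)).injective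
    rw [map_zero, RingHom.map_det, map_sub, map_one]
    exact h0
  obtain ⟨v, hv, h⟩ := Matrix.exists_mulVec_eq_zero_iff.2 h0'
  refine ⟨v, hv, ?_⟩
  rw [rho, toAut_smul]
  rwa [Matrix.sub_mulVec, Matrix.one_mulVec, sub_eq_zero] at h

theorem nsmul_ne_zero' {n : ℕ} (hn : ¬ p ∣ n) {v : Fin 2 × Fin 2 → K} (hv : v ≠ 0) : n • v ≠ 0 := by
  rw [← Nat.cast_smul_eq_nsmul K, Ne, smul_eq_zero]
  rintro (h | h)
  · exact hn ((CharP.cast_eq_zero_iff K p n).1 h)
  · exact hv h

theorem not_dvd_pred_succ {p q k : ℕ} (hp : p.Prime) (hq : q = p ^ k) (hk : k ≠ 0) :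
    ¬ p ∣ q - 1 ∧ ¬ p ∣ q + 1 := by
  have hpq : p ∣ q := hq ▸ dvd_pow_self p hk
  have h1 : 1 ≤ q := hq ▸ Nat.one_le_pow _ _ hp.pos
  constructor <;> intro h
  · have := Nat.dvd_sub hpq h
    rw [show q - (q - 1) = 1 by omega] at this
    exact hp.one_lt.ne' (Nat.dvd_one.1 this)
  · have := Nat.dvd_sub h hpq
    rw [show q + 1 - q = 1 by omega] at this
    exact hp.one_lt.ne' (Nat.dvd_one.1 this)

/-- Even characteristic. -/
theorem witness_two [Fintype K] [CharP K 2] (m : ℕ) (hm : 2 ≤ m) (hK : Fintype.card K = 2 ^ (m * 2)) (N : ℕ) :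
    ∃ (H : Type) (_ : Group H) (_ : Fintype H), N < Fintype.card H ∧
      Set.range (orderOf : H → ℕ) = {d | ∃ M ∈ specFour 2 (2 ^ m), d ∣ M} := by
  have h4 : 4 ≤ 2 ^ m := le_trans (by norm_num) (Nat.pow_le_pow_right two_pos hm)
  obtain ⟨hm1, hp1, -, -, -⟩ := eFac_facts 2 (q := 2 ^ m) rfl (by omega)
  rw [← pow_mul] at hm1 hp1
  have hqq : (2 ^ m) ^ 2 = 2 ^ (m * 2) := (pow_mul _ _ _).symm
  let R := (rho (K := K) 2 m).range
  have hspec : ∀ M, M ∈ specFour 2 (2 ^ m) ↔ M = ((2 ^ m) ^ 2 - 1) / eFac 2 ∨ M = ((2 ^ m) ^ 2 + 1) / eFac 2 ∨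
      M = 2 * (2 ^ m - 1) ∨ M = 2 * (2 ^ m + 1) ∨ M = 2 ^ Nat.clog 2 4 := by
    intro M; simp [specFour, specList]
  have hc4 : Nat.clog 2 4 = 2 := Nat.clog_pow 2 2 one_lt_two
  refine exists_big (X := R) (W := Fin 2 × Fin 2 → K) Nat.prime_two (fun w => ?_)
    (w := Pi.single (1, 1) 1) (by simp) _ (fun g => ?_) (fun g w hw => ?_) (fun M hM => ?_) N
  · rw [← Nat.cast_smul_eq_nsmul K, CharP.cast_eq_zero K 2, zero_smul]
  · obtain ⟨g, x, rfl⟩ := g
    rw [← Subgroup.orderOf_coe]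
    rcases inner_cases 2 m hK (eFac_dvd_two 2) hm1 hp1 x with ⟨c, -, -, h⟩ | ⟨h, -⟩
    · exact ⟨2 * (2 ^ m - 1), by simp [hspec], (orderOf_dvd_of_pow_eq_one h).trans (dvd_mul_right _ _)⟩
    · rcases h with h | h
      · exact ⟨_, (hspec _).2 (Or.inl rfl), by rw [hqq]; exact orderOf_dvd_of_pow_eq_one h⟩
      · exact ⟨_, (hspec _).2 (Or.inr (Or.inl rfl)), by rw [hqq]; exact orderOf_dvd_of_pow_eq_one h⟩
  · obtain ⟨g, x, rfl⟩ := g
    rw [← Subgroup.orderOf_coe]
    rcases inner_cases 2 m hK (eFac_dvd_two 2) hm1 hp1 x with ⟨c, -, -, h⟩ | ⟨-, h⟩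
    · refine ⟨2 ^ Nat.clog 2 4, by simp [hspec], ?_⟩
      rw [hc4, sq]
      exact Nat.mul_dvd_mul_left 2 (orderOf_dvd_of_pow_eq_one h)
    · obtain ⟨v, hv, hgv⟩ := fixed_of_nm hw
      rcases h ⟨v, hv, hgv⟩ with h | h
      · exact ⟨2 * (2 ^ m - 1), by simp [hspec], Nat.mul_dvd_mul_left 2 (orderOf_dvd_of_pow_eq_one h)⟩
      · exact ⟨2 * (2 ^ m + 1), by simp [hspec], Nat.mul_dvd_mul_left 2 (orderOf_dvd_of_pow_eq_one h)⟩
  · have heven : 2 ∣ 2 ^ m := dvd_pow_self 2 (by omega)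
    have tor : ∀ T, 3 ≤ T → Odd T → (T ∣ Fintype.card K - 1 ∨ T ∣ Fintype.card K + 1) →
        ∃ (x : SpecialLinearGroup (Fin 2) K) (l : AlgebraicClosure K), orderOf l = T ∧
          aeval l (x : Matrix (Fin 2) (Fin 2) K).charpoly = 0 ∧ l ≠ l⁻¹ ∧
          T ∣ orderOf (rho 2 m x) ∧ orderOf (rho 2 m x) ∣ T := by
      intro T hT3 hTo hT
      obtain ⟨x, l, hlo, hl⟩ := exists_sl2_eigen (K := K) 2 hT
      have hne := eigen_ne_inv (l := l) (hlo ▸ hT3)
      refine ⟨x, l, hlo, hl, hne, ?_, orderOf_dvd_of_pow_eq_one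
        (pow_eq_one_of_eigen 2 m x hl hne (hlo ▸ pow_orderOf_eq_one l))⟩
      have := hlo ▸ orderOf_dvd_of_pow_eq_one
        (two_mul_pow_eq_one 2 m hl hne (pow_orderOf_eq_one (rho 2 m x)))
      exact (Nat.Coprime.dvd_of_dvd_mul_left (Nat.coprime_two_right.2 hTo) this)
    have fix : ∀ T, 3 ≤ T → Odd T → (T = 2 ^ m - 1 ∨ T = 2 ^ m + 1) →
        ∃ g : R, (∃ w : Fin 2 × Fin 2 → K, ModuleExt.nm g w ≠ 0) ∧ 2 * T ∣ 2 * orderOf g := by
      intro T hT3 hTo hT
      have hTd : T ∣ Fintype.card K - 1 := by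
        rw [hK, ← hqq, show (2 ^ m) ^ 2 - 1 = (2 ^ m + 1) * (2 ^ m - 1) by
          simpa using Nat.sq_sub_sq (2 ^ m) 1]
        rcases hT with rfl | rfl
        exacts [dvd_mul_left _ _, dvd_mul_right _ _]
      obtain ⟨x, l, hlo, hl, hne, hd1, hd2⟩ := tor T hT3 hTo (Or.inl hTd)
      have hl0 : l ≠ 0 := by rintro rfl; exact hne (_root_.inv_zero).symm
      have hdiag := isDiag_natM 2 m x hl hne
      obtain ⟨v, hv, hgv⟩ : ∃ v : Fin 2 × Fin 2 → K, v ≠ 0 ∧ rho 2 m x • v = v := by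
        have hlT : l ^ T = 1 := hlo ▸ pow_orderOf_eq_one l
        rcases hT with rfl | rfl
        · refine exists_fixed 2 m x hdiag (i := (0, 1)) ?_
          simp only [Matrix.cons_val_zero, Matrix.cons_val_one]
          rw [inv_pow, show l ^ 2 ^ m = l by
            rw [show 2 ^ m = 2 ^ m - 1 + 1 by omega, pow_succ, hlT, one_mul]]
          exact mul_inv_cancel₀ hl0
        · refine exists_fixed 2 m x hdiag (i := (0, 0)) ?_
          simp only [Matrix.cons_val_zero]
          rw [← pow_succ', hlT]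
      refine ⟨⟨rho 2 m x, x, rfl⟩, ⟨v, ?_⟩, ?_⟩
      · rw [nm_eq_nsmul (show (⟨rho 2 m x, x, rfl⟩ : R) • v = v from hgv), ← Subgroup.orderOf_coe]
        refine nsmul_ne_zero' 2 (fun h => ?_) hv
        exact (Nat.not_even_iff_odd.2 hTo) (even_iff_two_dvd.2 (h.trans hd2))
      · rw [← Subgroup.orderOf_coe]
        exact Nat.mul_dvd_mul_left 2 hd1
    have ho : ∀ k : ℕ, k ≠ 0 → Odd (2 ^ k - 1) ∧ Odd (2 ^ k + 1) := fun k hk => by
      obtain ⟨r, hr⟩ : 2 ∣ 2 ^ k := dvd_pow_self 2 hk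
      have := Nat.one_le_two_pow (n := k)
      exact ⟨⟨r - 1, by omega⟩, ⟨r, by omega⟩⟩
    have hef : eFac 2 = 1 := rfl
    rcases (hspec M).1 hM with rfl | rfl | rfl | rfl | rfl
    · obtain ⟨x, l, -, -, -, hd1, -⟩ := tor (((2 ^ m) ^ 2 - 1) / eFac 2)
        (by rw [hef, Nat.div_one]; have := Nat.le_self_pow two_ne_zero (2 ^ m); omega)
        (by rw [hef, Nat.div_one, hqq]; exact (ho _ (by omega)).1)
        (Or.inl (by rw [hef, Nat.div_one, hqq, hK]))
      exact Or.inl ⟨⟨rho 2 m x, x, rfl⟩, by rw [← Subgroup.orderOf_coe]; exact hd1⟩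
    · obtain ⟨x, l, -, -, -, hd1, -⟩ := tor (((2 ^ m) ^ 2 + 1) / eFac 2)
        (by rw [hef, Nat.div_one]; have := Nat.le_self_pow two_ne_zero (2 ^ m); omega)
        (by rw [hef, Nat.div_one, hqq]; exact (ho _ (by omega)).2)
        (Or.inr (by rw [hef, Nat.div_one, hqq, hK]))
      exact Or.inl ⟨⟨rho 2 m x, x, rfl⟩, by rw [← Subgroup.orderOf_coe]; exact hd1⟩
    · exact Or.inr (fix _ (by omega) (ho m (by omega)).1 (Or.inl rfl))
    · exact Or.inr (fix _ (by omega) (ho m (by omega)).2 (Or.inr rfl))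
    · let u : SpecialLinearGroup (Fin 2) K := ⟨!![1, 1; 0, 1], by simp [Matrix.det_fin_two_of]⟩
      have hu2 : orderOf (rho 2 m u) = 2 := by
        refine orderOf_eq_prime ?_ ?_
        · rcases inner_cases 2 m hK (eFac_dvd_two 2) hm1 hp1 u with ⟨c, -, -, h⟩ | ⟨-, -⟩
          · exact h
          · refine rho_pow_eq_one 2 m (c := 1) (Or.inl rfl) ?_
            ext i j
            fin_cases i <;> fin_cases j <;> simp [u, sq, Matrix.mul_apply, Fin.sum_univ_two, CharTwo.add_self_eq_zero]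
        · rw [Ne, rho, toAut_eq_one]
          intro h
          have := congrFun (congrFun h (0, 1)) (1, 1)
          simp [natM, coe_twist, u] at this
      refine Or.inr ⟨⟨rho 2 m u, u, rfl⟩, ⟨Pi.single (1, 1) 1, fun h0 => ?_⟩, ?_⟩
      · rw [ModuleExt.nm, ← Subgroup.orderOf_coe, hu2, Finset.sum_range_succ, Finset.sum_range_one,
          pow_zero, one_smul, pow_one, Subgroup.smul_def] at h0
        have h2 := congrFun h0 (0, 1)
        have e : (rho 2 m u • (Pi.single (1, 1) 1 : Fin 2 × Fin 2 → K)) (0, 1) = 1 := by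
          rw [rho, toAut_smul, Matrix.mulVec_single_one]
          show ((!![1, 1; 0, 1] : Matrix (Fin 2) (Fin 2) K) ⊗ₖ
            (!![1, 1; 0, 1] : Matrix (Fin 2) (Fin 2) K).map (iterateFrobenius K 2 m)) (0, 1) (1, 1) = 1
          simp
        rw [Pi.add_apply, e] at h2
        simp at h2
      · rw [hc4, ← Subgroup.orderOf_coe, hu2]
        norm_num

set_option maxHeartbeats 1600000 in
/-- Characteristic at least five. -/
theorem witness_five [Fintype K] (hp5 : 5 ≤ p) (hm : 1 ≤ m) (hK : Fintype.card K = p ^ (m * 2)) (N : ℕ) :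
    ∃ (H : Type) (_ : Group H) (_ : Fintype H), N < Fintype.card H ∧
      Set.range (orderOf : H → ℕ) = {d | ∃ M ∈ specFour p (p ^ m), d ∣ M} := by
  have hpp := (Fact.out : p.Prime)
  have hφ : ∀ a : K, iterateFrobenius K p m (iterateFrobenius K p m a) = a := fun a => by
    rw [iterateFrobenius_def, iterateFrobenius_def, ← pow_mul, ← pow_add,
      show m + m = m * 2 by ring, ← hK, FiniteField.pow_card]
  set q := p ^ m with hq
  have hqq : q ^ 2 = p ^ (m * 2) := (pow_mul _ _ _).symm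
  have hq5 : 5 ≤ q := le_trans hp5 (Nat.le_self_pow (by omega) p)
  obtain ⟨hm1, hp1, -, -, -⟩ := eFac_facts p (q := q) hq (by omega)
  rw [hqq] at hm1 hp1
  have he : eFac p = 2 := by simp [eFac, show p ≠ 2 by omega]
  have hqodd : Odd q := hq ▸ (hpp.odd_of_ne_two (by omega)).pow
  obtain ⟨hnp1, hnp2⟩ := not_dvd_pred_succ (q := q) hpp hq (by omega)
  have hnp2' : ¬ p ∣ 2 := fun h => by have := Nat.le_of_dvd two_pos h; omega
  have hclog : p ^ Nat.clog p 4 = p := by
    rw [Nat.clog_eq_one (by norm_num) (by omega), pow_one]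
  let R := bigX (K := K) p m hφ
  have hspec : ∀ M, M ∈ specFour p q ↔ M = (q ^ 2 - 1) / eFac p ∨ M = (q ^ 2 + 1) / eFac p ∨
      M = p * (q - 1) ∨ M = p * (q + 1) ∨ M = p := by
    intro M; simp [specFour, specList, hclog]
  -- the square of an outer element
  have outer : ∀ (x : SpecialLinearGroup (Fin 2) K) (g : R),
      (g : (Module.End K (Fin 2 × Fin 2 → K))ˣ) = rho p m x * swapU →
      Even (orderOf g) ∧ ((g : (Module.End K (Fin 2 × Fin 2 → K))ˣ) ^ 2 = rho p m (x * twist p m x)) := by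
    intro x g hg
    have h2 : (g : (Module.End K (Fin 2 × Fin 2 → K))ˣ) ^ 2 = rho p m (x * twist p m x) := by
      rw [sq, hg, outer_mul p m hφ]
    refine ⟨?_, h2⟩
    by_contra hodd
    obtain ⟨k, hk⟩ := Nat.not_even_iff_odd.1 hodd
    have h1 := pow_orderOf_eq_one (g : (Module.End K (Fin 2 × Fin 2 → K))ˣ)
    rw [Subgroup.orderOf_coe, hk, pow_succ, pow_mul, h2, hg, ← map_pow, ← mul_assoc, ← map_mul] at h1
    exact outer_ne_one p m hφ _ h1
  have htr : ∀ x : SpecialLinearGroup (Fin 2) K,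
      ((x * twist p m x : SpecialLinearGroup (Fin 2) K) : Matrix (Fin 2) (Fin 2) K).trace ^ q =
        ((x * twist p m x : SpecialLinearGroup (Fin 2) K) : Matrix (Fin 2) (Fin 2) K).trace := by
    intro x
    rw [← iterateFrobenius_def (R := K) p m, Matrix.SpecialLinearGroup.coe_mul, coe_twist]
    simp only [Matrix.trace_fin_two, Matrix.mul_apply, Fin.sum_univ_two, Matrix.map_apply, map_add, map_mul, hφ]
    ring
  -- case analysis
  have upper : ∀ g : R, (orderOf g ∣ (q ^ 2 - 1) / eFac p ∨ orderOf g ∣ (q ^ 2 + 1) / eFac p ∨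
      orderOf g ∣ p * (q - 1) ∨ orderOf g ∣ p * (q + 1)) ∧
      ∀ w : Fin 2 × Fin 2 → K, ModuleExt.nm g w ≠ 0 → orderOf g ∣ q - 1 ∨ orderOf g ∣ q + 1 := by
    rintro ⟨g, x, hg⟩
    rcases hg with hg | hg
    · subst hg
      rw [← Subgroup.orderOf_coe]
      rcases inner_cases p m hK (eFac_dvd_two p) hm1 hp1 x with ⟨c, hc, hsq, h⟩ | ⟨h, h'⟩
      · have hd := orderOf_dvd_of_pow_eq_one h
        refine ⟨Or.inr (Or.inr (Or.inl (hd.trans (dvd_mul_right _ _)))), fun w hw => ?_⟩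
        rcases (Nat.dvd_prime hpp).1 hd with h1 | h1
        · exact Or.inl (by rw [h1]; exact one_dvd _)
        · refine absurd (nm_eq_zero_of_sum (n := p) _ ((Subgroup.orderOf_coe _).symm.trans h1) ?_ w) hw
          have := coe_pow_sub p m hp5 (rho p m x) (d := 1) (x := x) (pow_one _) hc hsq
          rwa [one_mul] at this
      · refine ⟨?_, fun w hw => ?_⟩
        · rw [hqq]
          rcases h with h | h
          exacts [Or.inl (orderOf_dvd_of_pow_eq_one h), Or.inr (Or.inl (orderOf_dvd_of_pow_eq_one h))]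
        · obtain ⟨v, hv, hgv⟩ := fixed_of_nm hw
          rcases h' ⟨v, hv, hgv⟩ with h1 | h1
          exacts [Or.inl (orderOf_dvd_of_pow_eq_one h1), Or.inr (orderOf_dvd_of_pow_eq_one h1)]
    · obtain ⟨hev, h2⟩ := outer x ⟨g, x, Or.inr hg⟩ hg
      rw [← Subgroup.orderOf_coe] at hev ⊢
      simp only at h2 hev ⊢
      obtain ⟨j, hj⟩ := hqodd
      rcases sl2_cases p (x * twist p m x) hq (dvd_refl 2) (htr x) with ⟨c, hc, hsq⟩ | h | h
      · have hd : orderOf g ∣ 2 * p := by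
          refine orderOf_dvd_of_pow_eq_one ?_
          rw [pow_mul, h2]
          have h3 := pow_char_pow_eq p (k := 1) (by simpa using hpp.two_le) hsq
          rw [pow_one] at h3
          refine rho_pow_eq_one p m (c := c ^ p) ?_ h3
          rcases hc with rfl | rfl
          exacts [Or.inl (one_pow _), neg_one_pow_eq_or K _]
        refine ⟨Or.inr (Or.inr (Or.inl (hd.trans ?_))), fun w hw => ?_⟩
        · rw [mul_comm]
          exact Nat.mul_dvd_mul_left p ⟨j, by omega⟩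
        · obtain ⟨k, hk⟩ := hev
          have hkp : k ∣ p := by
            rw [hk, ← two_mul] at hd
            exact (Nat.mul_dvd_mul_iff_left two_pos).1 hd
          rcases (Nat.dvd_prime hpp).1 hkp with h1 | h1
          · exact Or.inl (by rw [hk, h1]; exact ⟨j, by omega⟩)
          · refine absurd (nm_eq_zero_of_sum (n := 2 * p) _
              ((Subgroup.orderOf_coe _).symm.trans (by show orderOf g = 2 * p; omega)) ?_ w) hw
            exact coe_pow_sub p m hp5 g (d := 2) h2 hc hsq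
      · obtain ⟨c, hc, hH⟩ := h j (by omega)
        have hd : orderOf g ∣ q - 1 := orderOf_dvd_of_pow_eq_one (by
          rw [show q - 1 = 2 * j by omega, pow_mul, h2, rho_pow_eq_one p m hc hH])
        exact ⟨Or.inr (Or.inr (Or.inl (hd.trans (dvd_mul_left _ _)))), fun _ _ => Or.inl hd⟩
      · obtain ⟨c, hc, hH⟩ := h (j + 1) (by omega)
        have hd : orderOf g ∣ q + 1 := orderOf_dvd_of_pow_eq_one (by
          rw [show q + 1 = 2 * (j + 1) by omega, pow_mul, h2, rho_pow_eq_one p m hc hH])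
        exact ⟨Or.inr (Or.inr (Or.inr (hd.trans (dvd_mul_left _ _)))), fun _ _ => Or.inr hd⟩
  refine exists_big (X := R) (W := Fin 2 × Fin 2 → K) hpp (fun w => ?_)
    (w := Pi.single (0, 0) 1) (by simp) _ (fun g => ?_) (fun g w hw => ?_) (fun M hM => ?_) N
  · rw [← Nat.cast_smul_eq_nsmul K, CharP.cast_eq_zero K p, zero_smul]
  · rcases (upper g).1 with h | h | h | h <;> exact ⟨_, by simp [hspec], h⟩
  · rcases (upper g).2 w hw with h | h
    · exact ⟨p * (q - 1), by simp [hspec], Nat.mul_dvd_mul_left p h⟩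
    · exact ⟨p * (q + 1), by simp [hspec], Nat.mul_dvd_mul_left p h⟩
  · have tor : ∀ H, 2 ≤ H → (eFac p * H ∣ Fintype.card K - 1 ∨ eFac p * H ∣ Fintype.card K + 1) →
        ∃ g : R, H ∣ orderOf g := by
      intro H hH3 hH
      obtain ⟨x, l, hlo, hl⟩ := exists_sl2_eigen (K := K) p hH
      have hne := eigen_ne_inv (l := l) (by rw [hlo, he]; omega)
      refine ⟨⟨rho p m x, x, Or.inl rfl⟩, ?_⟩
      rw [← Subgroup.orderOf_coe]
      have := hlo ▸ orderOf_dvd_of_pow_eq_one
        (two_mul_pow_eq_one p m hl hne (pow_orderOf_eq_one (rho p m x)))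
      rw [he] at this
      exact (Nat.mul_dvd_mul_iff_left two_pos).1 this
    -- outer elements with fixed vectors
    have fixouter : ∀ (x : SpecialLinearGroup (Fin 2) K) (μ : K) (T : ℕ), 3 ≤ T → ¬ p ∣ T → orderOf μ = T →
        ((x * twist p m x : SpecialLinearGroup (Fin 2) K) : Matrix (Fin 2) (Fin 2) K) = !![μ, 0; 0, μ⁻¹] →
        (∃ v : Fin 2 × Fin 2 → K, v ≠ 0 ∧ rho p m x • ((swapU : (Module.End K (Fin 2 × Fin 2 → K))ˣ) • v) = v) →
        ∃ g : R, (∃ w : Fin 2 × Fin 2 → K, ModuleExt.nm g w ≠ 0) ∧ p * T ∣ p * orderOf g := by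
      rintro x μ T hT hpT hμ hy ⟨v, hv, hfix⟩
      let g : R := ⟨rho p m x * swapU, x, Or.inr rfl⟩
      obtain ⟨⟨k, hk⟩, h2⟩ := outer x g rfl
      set l := algebraMap K (AlgebraicClosure K) μ
      have hlo : orderOf l = T := hμ ▸ orderOf_injective _ (algebraMap K (AlgebraicClosure K)).injective μ
      have hne := eigen_ne_inv (l := l) (hlo ▸ hT)
      have hl : aeval l ((x * twist p m x : SpecialLinearGroup (Fin 2) K) : Matrix (Fin 2) (Fin 2) K).charpoly = 0 := by
        rw [hy, Matrix.charpoly_fin_two]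
        have hμ0 : μ ≠ 0 := by rintro rfl; simp [orderOf_zero] at hμ; omega
        have hl0 : l ≠ 0 := (_root_.map_ne_zero _).2 hμ0
        simp [Matrix.trace_fin_two_of, Matrix.det_fin_two_of, hμ0, l]
        linear_combination -(mul_inv_cancel₀ hl0)
      have hg : orderOf g = orderOf (g : (Module.End K (Fin 2 × Fin 2 → K))ˣ) := (Subgroup.orderOf_coe g).symm
      have hyk : rho p m (x * twist p m x) ^ k = 1 := by
        rw [← h2, ← pow_mul, two_mul, ← hk, hg, pow_orderOf_eq_one]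
      have hT' : T ∣ orderOf g := by
        rw [hk, ← two_mul, ← hlo]
        exact orderOf_dvd_of_pow_eq_one (two_mul_pow_eq_one p m hl hne hyk)
      have hgT : orderOf g ∣ 2 * T := by
        rw [hg]
        refine orderOf_dvd_of_pow_eq_one ?_
        rw [pow_mul, h2]
        exact pow_eq_one_of_eigen p m _ hl hne (hlo ▸ pow_orderOf_eq_one l)
      refine ⟨g, ⟨v, ?_⟩, Nat.mul_dvd_mul_left p hT'⟩
      rw [nm_eq_nsmul (show g • v = v by rw [Subgroup.smul_def, mul_smul]; exact hfix)]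
      refine nsmul_ne_zero' p (fun h => ?_) hv
      rcases hpp.dvd_mul.1 (h.trans hgT) with h | h
      exacts [hnp2' h, hpT h]
    obtain ⟨d, hd⟩ := IsCyclic.exists_ofOrder_eq_natCard (α := Kˣ)
    rw [Nat.card_units, Nat.card_eq_fintype_card, hK, ← hqq] at hd
    have hd' : orderOf (d : K) = q ^ 2 - 1 := orderOf_units.trans hd
    have hsq : q ^ 2 - 1 = (q + 1) * (q - 1) := by simpa using Nat.sq_sub_sq q 1
    have hd0 : (d : K) ≠ 0 := d.ne_zero
    have hφd : ∀ a : K, iterateFrobenius K p m a = a ^ q := fun a => iterateFrobenius_def ..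
    rcases (hspec M).1 hM with rfl | rfl | rfl | rfl | hMp
    · exact Or.inl (tor _ (by
        rw [he, hsq, Nat.le_div_iff_mul_le two_pos]; nlinarith [Nat.sub_add_cancel (show 1 ≤ q by omega)])
        (Or.inl (by rw [hK, hqq, hm1])))
    · exact Or.inl (tor _ (by rw [he, Nat.le_div_iff_mul_le two_pos]; nlinarith)
        (Or.inr (by rw [hK, hqq, hp1])))
    · -- `q - 1`
      let x : SpecialLinearGroup (Fin 2) K :=
        ⟨!![(d : K), 0; 0, (d : K)⁻¹], by simp [Matrix.det_fin_two_of, hd0]⟩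
      refine Or.inr (fixouter x ((d : K) ^ (q + 1)) (q - 1) (by omega) hnp1 ?_ ?_ ⟨?_, ?_, ?_⟩)
      · rw [orderOf_pow_of_dvd (by omega) (hd' ▸ hsq ▸ dvd_mul_right _ _), hd', hsq,
          Nat.mul_div_cancel_left _ (by omega)]
      · rw [Matrix.SpecialLinearGroup.coe_mul, coe_twist]
        show !![(d : K), 0; 0, (d : K)⁻¹] * (!![(d : K), 0; 0, (d : K)⁻¹]).map (iterateFrobenius K p m) = _
        ext i j
        fin_cases i <;> fin_cases j <;>
          simp [Matrix.mul_apply, Fin.sum_univ_two, hφd, pow_succ', mul_comm,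
            zero_pow (show q ≠ 0 by omega)]
      · exact fun i => if i = (0, 1) then (d : K) * ((d : K) ^ q)⁻¹ else if i = (1, 0) then 1 else 0
      · intro h
        simpa using congrFun h (1, 0)
      · funext ⟨i, j⟩
        rw [rho, toAut_smul]
        show ((!![(d : K), 0; 0, (d : K)⁻¹]) ⊗ₖ (!![(d : K), 0; 0, (d : K)⁻¹]).map (iterateFrobenius K p m) *ᵥ _)
          (i, j) = _
        fin_cases i <;> fin_cases j <;>
          simp [Matrix.mulVec, dotProduct, Fintype.sum_prod_type, Fin.sum_univ_two, x, coe_twist, hφd,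
            swapU_smul, zero_pow (show q ≠ 0 by omega)]
        field_simp
    · -- `q + 1`
      obtain ⟨j, hj⟩ := hqodd
      set α := (d : K) ^ (j + 2)
      have hα0 : α ≠ 0 := pow_ne_zero _ hd0
      let x : SpecialLinearGroup (Fin 2) K :=
        ⟨!![0, α; -α⁻¹, 0], by rw [Matrix.det_fin_two_of]; field_simp; ring⟩
      have hneg : (d : K) ^ ((j + 1) * (q - 1)) = -1 := by
        have h1 : ((d : K) ^ ((j + 1) * (q - 1))) ^ 2 = 1 := by
          rw [← pow_mul, ← orderOf_dvd_iff_pow_eq_one, hd', hsq,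
            show (j + 1) * (q - 1) * 2 = (q + 1) * (q - 1) by rw [show q + 1 = 2 * (j + 1) by omega]; ring]
        refine (sq_eq_one_iff.1 h1).resolve_left fun h => ?_
        have := Nat.le_of_dvd (Nat.mul_pos (Nat.succ_pos j) (by omega)) (orderOf_dvd_of_pow_eq_one h)
        rw [hd', hsq] at this
        have h2 : j + 1 < q + 1 := by omega
        exact absurd this (not_le.2 (Nat.mul_lt_mul_of_pos_right h2 (by omega)))
      have hμ : -(α * (α ^ q)⁻¹) = ((d : K) ^ (q - 1))⁻¹ := by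
        have e : α ^ q = α * ((d : K) ^ ((j + 1) * (q - 1)) * (d : K) ^ (q - 1)) := by
          rw [← pow_add, show α = (d : K) ^ (j + 2) from rfl, ← pow_add, ← pow_mul]
          congr 1
          rw [show q - 1 = 2 * j by omega, hj]
          ring
        rw [e, hneg]
        field_simp
      refine Or.inr (fixouter x (-(α * (α ^ q)⁻¹)) (q + 1) (by omega) hnp2 ?_ ?_ ⟨?_, ?_, ?_⟩)
      · rw [hμ, show ((d : K) ^ (q - 1))⁻¹ = (((d ^ (q - 1))⁻¹ : Kˣ) : K) by simp, orderOf_units, orderOf_inv,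
          orderOf_pow_of_dvd (by omega) (hd ▸ hsq ▸ dvd_mul_left _ _), hd, hsq,
          Nat.mul_div_cancel _ (by omega)]
      · rw [Matrix.SpecialLinearGroup.coe_mul, coe_twist]
        show !![0, α; -α⁻¹, 0] * (!![0, α; -α⁻¹, 0]).map (iterateFrobenius K p m) = _
        ext i j
        fin_cases i <;> fin_cases j <;>
          simp [Matrix.mul_apply, Fin.sum_univ_two, hφd, map_neg, mul_comm,
            zero_pow (show q ≠ 0 by omega), (show Odd q from ⟨_, ‹q = _›⟩).neg_pow] <;> ring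
      · exact fun i => if i = (0, 0) then α * α ^ q else if i = (1, 1) then 1 else 0
      · intro h
        simpa using congrFun h (1, 1)
      · funext ⟨i, j⟩
        rw [rho, toAut_smul]
        show ((!![0, α; -α⁻¹, 0]) ⊗ₖ (!![0, α; -α⁻¹, 0]).map (iterateFrobenius K p m) *ᵥ _) (i, j) = _
        fin_cases i <;> fin_cases j <;>
          simp [Matrix.mulVec, dotProduct, Fintype.sum_prod_type, Fin.sum_univ_two, x, coe_twist, hφd,
            swapU_smul, zero_pow (show q ≠ 0 by omega), (show Odd q from ⟨_, ‹q = _›⟩).neg_pow]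
        field_simp
    · refine Or.inr ⟨1, ⟨Pi.single (0, 0) 1, ?_⟩, by rw [hMp, orderOf_one, mul_one]⟩
      rw [ModuleExt.nm_of_one]
      simp

end CfsgLib.PSpFourSpec
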