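import Cfsg.Agent.Lib.PSpFourSpec.Lower

/-!
The spectrum of `PSp₄(q)`.
-/

set_option autoImplicit false

namespace CfsgLib.PSpFourSpec

/-- The index of the two tori: one in even and two in odd characteristic. -/
def eFac (p : ℕ) : ℕ := if p = 2 then 1 else 2

theorem eFac_dvd_two (p : ℕ) : eFac p ∣ 2 := by unfold eFac; split_ifs <;> norm_num

theorem eFac_facts (p : ℕ) [hp : Fact p.Prime] {q k : ℕ} (hq : q = p ^ k) (hk : k ≠ 0) :
    eFac p * ((q ^ 2 - 1) / eFac p) = q ^ 2 - 1 ∧ eFac p * ((q ^ 2 + 1) / eFac p) = q ^ 2 + 1 ∧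
      q - 1 ∣ (q ^ 2 - 1) / eFac p ∧ q + 1 ∣ (q ^ 2 - 1) / eFac p ∧
      ((q ^ 2 + 1) / eFac p).Coprime 2 := by
  have e : q ^ 2 - 1 = (q + 1) * (q - 1) := by
    have := Nat.sq_sub_sq q 1
    rwa [one_pow] at this
  unfold eFac
  rcases eq_or_ne p 2 with rfl | h2
  · rw [if_pos rfl, one_mul, Nat.div_one, one_mul, Nat.div_one]
    refine ⟨rfl, rfl, e ▸ dvd_mul_left _ _, e ▸ dvd_mul_right _ _, ?_⟩
    rw [Nat.coprime_two_right]
    exact Even.add_one (by rw [hq, ← pow_mul]; exact (even_two).pow_of_ne_zero (by positivity))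
  · rw [if_neg h2]
    obtain ⟨j, hj⟩ : Odd q := hq ▸ (hp.out.odd_of_ne_two h2).pow
    have e1 : q ^ 2 - 1 = 2 * (2 * j * (j + 1)) := by
      rw [e, hj, Nat.add_sub_cancel]; ring
    have e2 : q ^ 2 + 1 = 2 * (2 * j * (j + 1) + 1) := by rw [hj]; ring
    rw [e1, e2, Nat.mul_div_cancel_left _ two_pos, Nat.mul_div_cancel_left _ two_pos]
    refine ⟨rfl, rfl, ⟨j + 1, by rw [hj, Nat.add_sub_cancel]⟩, ⟨j, by rw [hj]; ring⟩, ?_⟩
    rw [Nat.coprime_two_right]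
    exact ⟨j * (j + 1), by ring⟩

/-- The maximal candidates for the element orders of `PSp₄(q)`. -/
def specFour (p q : ℕ) : Finset ℕ := specList p q ((q ^ 2 - 1) / eFac p) ((q ^ 2 + 1) / eFac p)

theorem range_orderOf_psp_four {F : Type*} [Field F] [Fintype F] (p : ℕ) [Fact p.Prime] [CharP F p] :
    Set.range (orderOf : Cfsg.PSp 2 F → ℕ) = {d | ∃ M ∈ specFour p (Fintype.card F), d ∣ M} := by
  obtain ⟨m, -, hqm⟩ := FiniteField.card F p
  obtain ⟨h1, h2, h3, h4, -⟩ := eFac_facts p hqm m.pos.ne'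
  exact range_orderOf_eq _ (fun g => orderOf_psp_four_dvd p (eFac_dvd_two p) h1 h2 h3 h4 g)
    (exists_psp_four_orders p (eFac_dvd_two p) (fun h => by simp [eFac, h]) (fun h => by simp [eFac, h]) h1 h2)

end CfsgLib.PSpFourSpec
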