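import Cfsg.Agent.Lib.PSpFourSpec.Spectrum
import Cfsg.Agent.Lib.AlmostAll.ModuleExt
import Mathlib.LinearAlgebra.Matrix.Kronecker
import Mathlib.Algebra.CharP.Frobenius

/-!
Twisted tensor actions of `SL₂`, diagonalisation, and element orders in the extensions.
-/

set_option autoImplicit false

namespace CfsgLib.PSpFourSpec

open Polynomial Matrix Kronecker

/-- `P` diagonalises `N` with eigenvalues `w`. -/
def IsDiag {L ι : Type*} [Field L] [Fintype ι] [DecidableEq ι] (N : Matrix ι ι L) (w : ι → L) : Prop :=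
  ∃ P : Matrix ι ι L, P.det ≠ 0 ∧ N * P = P * diagonal w

section diag

variable {L ι κ : Type*} [Field L] [Fintype ι] [DecidableEq ι] [Fintype κ] [DecidableEq κ]

theorem IsDiag.kronecker {A : Matrix ι ι L} {B : Matrix κ κ L} {u : ι → L} {v : κ → L}
    (hA : IsDiag A u) (hB : IsDiag B v) : IsDiag (A ⊗ₖ B) (fun i => u i.1 * v i.2) := by
  obtain ⟨P, hP, hP'⟩ := hA
  obtain ⟨Q, hQ, hQ'⟩ := hB
  refine ⟨P ⊗ₖ Q, ?_, ?_⟩
  · rw [Matrix.det_kronecker]
    exact mul_ne_zero (pow_ne_zero _ hP) (pow_ne_zero _ hQ)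
  · rw [← Matrix.mul_kronecker_mul, hP', hQ', Matrix.mul_kronecker_mul, Matrix.diagonal_kronecker_diagonal]

theorem IsDiag.map {A : Matrix ι ι L} {u : ι → L} (f : L →+* L) (hA : IsDiag A u) :
    IsDiag (A.map f) (fun i => f (u i)) := by
  obtain ⟨P, hP, hP'⟩ := hA
  refine ⟨P.map f, ?_, ?_⟩
  · rw [← RingHom.mapMatrix_apply, ← RingHom.map_det]
    exact fun h => hP (f.injective (by rw [h, map_zero]))
  · rw [← Matrix.map_mul, hP', Matrix.map_mul, Matrix.diagonal_map (map_zero f)]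

theorem IsDiag.exists_eq_one {A : Matrix ι ι L} {u : ι → L} (hA : IsDiag A u) {v : ι → L} (hv : v ≠ 0)
    (h : A *ᵥ v = v) : ∃ i, u i = 1 := by
  obtain ⟨P, hP, hP'⟩ := hA
  set z := P⁻¹ *ᵥ v
  have hz : P *ᵥ z = v := by
    rw [Matrix.mulVec_mulVec, Matrix.mul_nonsing_inv _ hP.isUnit, Matrix.one_mulVec]
  have hz0 : z ≠ 0 := fun h0 => hv (by rw [← hz, h0, Matrix.mulVec_zero])
  obtain ⟨i, hi⟩ := Function.ne_iff.1 hz0
  refine ⟨i, ?_⟩
  have h1 : P *ᵥ (diagonal u *ᵥ z) = P *ᵥ z := by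
    rw [Matrix.mulVec_mulVec, ← hP', ← Matrix.mulVec_mulVec, hz, h]
  have h2 := congrFun (Matrix.mulVec_injective_of_isUnit ((Matrix.isUnit_iff_isUnit_det _).2 hP.isUnit) h1) i
  rw [Matrix.mulVec_diagonal] at h2
  exact (mul_eq_right₀ hi).1 h2

theorem IsDiag.pow_eq_one {A : Matrix ι ι L} {u : ι → L} (hA : IsDiag A u) {n : ℕ} (h : A ^ n = 1) (i : ι) :
    u i ^ n = 1 := by
  obtain ⟨P, hP, hP'⟩ := hA
  have hn : ∀ k, A ^ k * P = P * diagonal u ^ k := by
    intro k
    induction k with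
    | zero => simp
    | succ k ih => rw [pow_succ, mul_assoc, hP', ← mul_assoc, ih, mul_assoc, ← pow_succ]
  have h1 := hn n
  rw [h, one_mul, Matrix.diagonal_pow] at h1
  have h2 := congrArg (P⁻¹ * ·) h1
  simp only [← mul_assoc, Matrix.nonsing_inv_mul _ hP.isUnit, one_mul] at h2
  have h3 := congrFun (congrFun h2 i) i
  simpa using h3.symm

theorem isDiag_two (N : Matrix (Fin 2) (Fin 2) L) {l m : L} (hne : l ≠ m)
    (hl : N.charpoly.eval l = 0) (hm : N.charpoly.eval m = 0) : IsDiag N ![l, m] := by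
  have ev : ∀ z : L, N.charpoly.eval z = 0 → ∃ v : Fin 2 → L, v ≠ 0 ∧ N *ᵥ v = z • v := by
    intro z hz
    rw [Matrix.eval_charpoly] at hz
    obtain ⟨v, hv, h⟩ := Matrix.exists_mulVec_eq_zero_iff.2 hz
    refine ⟨v, hv, ?_⟩
    rw [Matrix.sub_mulVec, sub_eq_zero] at h
    rw [← h]
    funext i
    simp [Matrix.mulVec_diagonal]
  obtain ⟨v, hv, hNv⟩ := ev l hl
  obtain ⟨w, hw, hNw⟩ := ev m hm
  refine ⟨(Matrix.of ![v, w])ᵀ, ?_, ?_⟩
  · intro h0
    obtain ⟨c, hc, h⟩ := Matrix.exists_mulVec_eq_zero_iff.2 h0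
    have h1 : c 0 • v + c 1 • w = 0 := by
      rw [← h]; funext i; simp [Matrix.mulVec, dotProduct, Fin.sum_univ_two]; ring
    have h2 : (c 0 * l) • v + (c 1 * m) • w = 0 := by
      have := congrArg (fun x => N *ᵥ x) h1
      simpa [Matrix.mulVec_add, Matrix.mulVec_smul, hNv, hNw, smul_smul] using this
    have h3 : (c 0 * (l - m)) • v = 0 := by
      linear_combination (norm := module) h2 - m • h1
    have hc0 : c 0 = 0 := by
      rcases smul_eq_zero.1 h3 with h4 | h4
      · exact (mul_eq_zero.1 h4).resolve_right (sub_ne_zero.2 hne)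
      · exact absurd h4 hv
    rw [hc0, zero_smul, zero_add, smul_eq_zero] at h1
    exact hc (funext fun i => by fin_cases i; exacts [hc0, h1.resolve_right hw])
  · ext i j
    fin_cases j
    · have := congrFun hNv i
      simpa [Matrix.mul_apply, Matrix.mulVec, dotProduct, Matrix.diagonal, mul_comm] using this
    · have := congrFun hNw i
      simpa [Matrix.mul_apply, Matrix.mulVec, dotProduct, Matrix.diagonal, mul_comm] using this

end diag

section sl2

variable {K : Type*} [Field K]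

theorem isDiag_sl2 (x : SpecialLinearGroup (Fin 2) K) {l : AlgebraicClosure K}
    (hl : aeval l (x : Matrix (Fin 2) (Fin 2) K).charpoly = 0) (hne : l ≠ l⁻¹) :
    IsDiag ((x : Matrix (Fin 2) (Fin 2) K).map (algebraMap K (AlgebraicClosure K))) ![l, l⁻¹] := by
  have hl0 : l ≠ 0 := by
    rintro rfl; exact hne (_root_.inv_zero).symm
  refine isDiag_two _ hne ?_ ?_ <;> rw [Matrix.charpoly_map, Polynomial.eval_map, ← Polynomial.aeval_def]
  · exact hl
  · rw [charpoly_two] at hl ⊢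
    simp only [map_add, map_sub, map_mul, map_pow, aeval_X, aeval_C, map_one] at hl ⊢
    field_simp
    linear_combination hl

/-- A twist of the matrix of an element. -/
theorem map_frob (p k : ℕ) [Fact p.Prime] [CharP K p] {L : Type*} [Field L] [Algebra K L] [CharP L p]
    {ι : Type*} (x : Matrix ι ι K) :
    (x.map (iterateFrobenius K p k)).map (algebraMap K L) =
      (x.map (algebraMap K L)).map (iterateFrobenius L p k) := by
  ext i j
  simp [iterateFrobenius_def]

theorem kronecker_map_alg {L : Type*} [Field L] [Algebra K L] {ι κ : Type*}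
    (A : Matrix ι ι K) (B : Matrix κ κ K) :
    (A ⊗ₖ B).map (algebraMap K L) = A.map (algebraMap K L) ⊗ₖ B.map (algebraMap K L) := by
  ext i j
  simp

end sl2

section units

variable {K : Type} [Field K] {ι : Type} [Fintype ι] [DecidableEq ι]

/-- A matrix representation as a homomorphism into the automorphisms of the module. -/
noncomputable def toAut {G : Type} [Group G] (M : G →* Matrix ι ι K) : G →* (Module.End K (ι → K))ˣ :=
  ((Matrix.toLinAlgEquiv' : Matrix ι ι K ≃ₐ[K] Module.End K (ι → K)).toMonoidHom.comp M).toHomUnits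

theorem coe_toAut {G : Type} [Group G] (M : G →* Matrix ι ι K) (g : G) :
    ((toAut M g : (Module.End K (ι → K))ˣ) : Module.End K (ι → K)) = Matrix.toLinAlgEquiv' (M g) := rfl

theorem toAut_eq_one {G : Type} [Group G] (M : G →* Matrix ι ι K) (g : G) :
    toAut M g = 1 ↔ M g = 1 := by
  rw [Units.ext_iff, coe_toAut, Units.val_one, map_eq_one_iff _ (AlgEquiv.injective _)]

theorem toAut_smul {G : Type} [Group G] (M : G →* Matrix ι ι K) (g : G) (v : ι → K) :
    toAut M g • v = M g *ᵥ v := by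
  rw [Units.smul_def, coe_toAut, Module.End.smul_def, Matrix.toLinAlgEquiv'_apply]

instance [Finite K] : Finite (Module.End K (ι → K)) :=
  Finite.of_injective (fun f : Module.End K (ι → K) => (f : (ι → K) → (ι → K))) DFunLike.coe_injective

instance [Finite K] : Finite (Module.End K (ι → K))ˣ :=
  Finite.of_injective (fun u => (u : Module.End K (ι → K))) Units.val_injective

end units

section ext

variable {X W : Type} [Group X] [AddCommGroup W] [DistribMulAction X W]

theorem smul_nm (g : X) (w : W) : g • ModuleExt.nm g w = ModuleExt.nm g w := by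
  rw [ModuleExt.nm, Finset.smul_sum]
  simp only [smul_smul, ← pow_succ']
  have h1 := Finset.sum_range_succ' (fun j => g ^ j • w) (orderOf g)
  have h2 := Finset.sum_range_succ (fun j => g ^ j • w) (orderOf g)
  simp only [pow_orderOf_eq_one, pow_zero] at h1 h2
  exact add_right_cancel (h1.symm.trans h2)

theorem nm_eq_nsmul {g : X} {w : W} (h : g • w = w) : ModuleExt.nm g w = orderOf g • w := by
  have : ∀ j : ℕ, g ^ j • w = w := by
    intro j
    induction j with
    | zero => rw [pow_zero, one_smul]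
    | succ j ih => rw [pow_succ, mul_smul, h, ih]
  simp [ModuleExt.nm, this]

variable [Finite X] [Finite W]

theorem ext_spec {r : ℕ} (hr : r.Prime) (hW : ∀ w : W, r • w = 0) {k : ℕ} (hk : 0 < k) (S : Finset ℕ)
    (hA : ∀ g : X, ∃ M ∈ S, orderOf g ∣ M)
    (hB : ∀ g : X, ∀ w : W, ModuleExt.nm g w ≠ 0 → ∃ M ∈ S, r * orderOf g ∣ M)
    (hC : ∀ M ∈ S, (∃ g : X, M ∣ orderOf g) ∨ ∃ g : X, (∃ w : W, ModuleExt.nm g w ≠ 0) ∧ M ∣ r * orderOf g) :
    Set.range (orderOf : ModuleExt.Ext X W k → ℕ) = {d | ∃ M ∈ S, d ∣ M} := by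
  have h := ModuleExt.range_orderOf (X := X) (W := W) hr hW hk
  refine range_orderOf_eq S (fun x => ?_) fun M hM => ?_
  · have hx : orderOf x ∈ Set.range (orderOf : ModuleExt.Ext X W k → ℕ) := ⟨x, rfl⟩
    rw [h] at hx
    rcases hx with ⟨g, hg⟩ | ⟨g, ⟨w, hw⟩, hg⟩
    · rw [← hg]; exact hA g
    · rw [← hg]; exact hB g w hw
  · rcases hC M hM with ⟨g, hg⟩ | ⟨g, hgw, hg⟩
    · obtain ⟨x, hx⟩ : orderOf g ∈ Set.range (orderOf : ModuleExt.Ext X W k → ℕ) := by
        rw [h]; exact Or.inl ⟨g, rfl⟩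
      exact ⟨x, hx ▸ hg⟩
    · obtain ⟨x, hx⟩ : r * orderOf g ∈ Set.range (orderOf : ModuleExt.Ext X W k → ℕ) := by
        rw [h]; exact Or.inr ⟨g, hgw, rfl⟩
      exact ⟨x, hx ▸ hg⟩

/-- The statement of unboundedness from one module. -/
theorem exists_big {r : ℕ} (hr : r.Prime) (hW : ∀ w : W, r • w = 0) {w : W} (hw : w ≠ 0) (S : Finset ℕ)
    (hA : ∀ g : X, ∃ M ∈ S, orderOf g ∣ M)
    (hB : ∀ g : X, ∀ w : W, ModuleExt.nm g w ≠ 0 → ∃ M ∈ S, r * orderOf g ∣ M)
    (hC : ∀ M ∈ S, (∃ g : X, M ∣ orderOf g) ∨ ∃ g : X, (∃ w : W, ModuleExt.nm g w ≠ 0) ∧ M ∣ r * orderOf g)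
    (N : ℕ) :
    ∃ (H : Type) (_ : Group H) (_ : Fintype H), N < Fintype.card H ∧
      Set.range (orderOf : H → ℕ) = {d | ∃ M ∈ S, d ∣ M} := by
  refine ⟨ModuleExt.Ext X W (N + 1), inferInstance, Fintype.ofFinite _, ?_,
    ext_spec hr hW (Nat.succ_pos N) S hA hB hC⟩
  rw [← @Nat.card_eq_fintype_card (ModuleExt.Ext X W (N + 1)) (Fintype.ofFinite _)]
  exact ModuleExt.le_card hw

end ext

section geom

variable (p : ℕ) [Fact p.Prime] {R : Type*} [Ring R] [CharP R p]

theorem geom_sum_eq_zero (g : R) (d : ℕ) (h : (g ^ d - 1) ^ (p - 1) = 0) :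
    ∑ j ∈ Finset.range (d * p), g ^ j = 0 := by
  have hp := (Fact.out : p.Prime)
  have key : (∑ j ∈ Finset.range (d * p), (X : (ZMod p)[X]) ^ j) =
      (∑ i ∈ Finset.range d, X ^ i) * (X ^ d - 1) ^ (p - 1) := by
    refine mul_right_cancel₀ (Polynomial.X_sub_C_ne_zero (1 : ZMod p)) ?_
    rw [C_1, geom_sum_mul, mul_right_comm, geom_sum_mul, ← pow_succ', Nat.sub_add_cancel hp.one_lt.le,
      sub_pow_char, one_pow, pow_mul]
  letI : Algebra (ZMod p) R := ZMod.algebra R p
  have := congrArg (aeval g) key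
  simpa [map_sum, h] using this

theorem cube_eq_zero {R : Type*} [Ring R] {A B : R} (hc : A * B = B * A) (hA : A * A = 0) (hB : B * B = 0) :
    ((1 + A) * (1 + B) - 1) ^ 3 = 0 := by
  have e : (1 + A) * (1 + B) - 1 = A + B + A * B := by noncomm_ring
  have h1 : ∀ z, A * (A * z) = 0 := fun z => by rw [← mul_assoc, hA, zero_mul]
  have h2 : ∀ z, B * (B * z) = 0 := fun z => by rw [← mul_assoc, hB, zero_mul]
  have h3 : ∀ z, B * (A * z) = A * (B * z) := fun z => by rw [← mul_assoc, ← hc, mul_assoc]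
  rw [e, pow_succ, pow_succ, pow_one]
  simp [mul_add, add_mul, mul_assoc, hA, hB, h1, h2, h3, ← hc]

end geom

end CfsgLib.PSpFourSpec
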