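import Mathlib.LinearAlgebra.Matrix.Charpoly.Coeff
import Mathlib.LinearAlgebra.Matrix.SpecialLinearGroup
import Mathlib.FieldTheory.IsAlgClosed.AlgebraicClosure
import Mathlib.FieldTheory.Finite.Basic
import Mathlib.RingTheory.RootsOfUnity.AlgebraicallyClosed
import Mathlib.Tactic

/-!
Powers of matrices read off from eigenvalues; the trichotomy for two by two matrices of determinant one.
-/

set_option autoImplicit false

namespace CfsgLib.PSpFourSpec

open Polynomial Matrix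

variable {K L : Type*} [Field K] [Field L] [Algebra K L] {ι : Type*} [Fintype ι] [DecidableEq ι]

/-- An eigenvalue of a matrix with scalar power. -/
theorem root_pow_eq [Nonempty ι] (M : Matrix ι ι K) {l : L} (hl : aeval l M.charpoly = 0) {n : ℕ}
    {c : K} (h : M ^ n = c • (1 : Matrix ι ι K)) : l ^ n = algebraMap K L c := by
  set N := M.map (algebraMap K L) with hN
  have h0 : (Matrix.scalar ι l - N).det = 0 := by
    rw [← Matrix.eval_charpoly, hN, Matrix.charpoly_map, Polynomial.eval_map]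
    exact hl
  have hNn : N ^ n = Matrix.scalar ι (algebraMap K L c) := by
    have := congrArg (fun A => (algebraMap K L).mapMatrix A) h
    simp only [map_pow] at this
    rw [show N = (algebraMap K L).mapMatrix M from rfl, this]
    ext i j
    simp [Matrix.one_apply, Matrix.diagonal_apply]
    split_ifs <;> simp
  have hd : (Matrix.scalar ι (l ^ n) - N ^ n).det = 0 := by
    rw [map_pow, ← (Matrix.scalar_commute l (mul_comm l) N).geom_sum₂_mul n, Matrix.det_mul, h0, mul_zero]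
  rw [hNn, ← map_sub, Matrix.scalar_apply, Matrix.det_diagonal, Finset.prod_const, Finset.card_univ,
    pow_eq_zero_iff Fintype.card_ne_zero, sub_eq_zero] at hd
  exact hd

/-- A matrix whose characteristic polynomial divides a power of `X ^ n - c`. -/
theorem sub_pow_eq_zero (M : Matrix ι ι K) {n a : ℕ} {c : K}
    (h : (M.charpoly.map (algebraMap K L)) ∣ (X ^ n - C (algebraMap K L c)) ^ a) :
    (M ^ n - c • (1 : Matrix ι ι K)) ^ a = 0 := by
  have h' : (M.charpoly.map (algebraMap K L)) ∣ ((X ^ n - C c) ^ a).map (algebraMap K L) := by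
    simpa using h
  rw [Polynomial.map_dvd_map' _] at h'
  obtain ⟨d, hd⟩ := h'
  have := congrArg (aeval M) hd
  rw [map_mul, Matrix.aeval_self_charpoly, zero_mul, map_pow, map_sub, map_pow, aeval_X, aeval_C,
    Algebra.algebraMap_eq_smul_one] at this
  exact this

/-- A matrix whose characteristic polynomial divides `X ^ n - c`. -/
theorem pow_eq_of_dvd (M : Matrix ι ι K) {n : ℕ} {c : K}
    (h : (M.charpoly.map (algebraMap K L)) ∣ X ^ n - C (algebraMap K L c)) :
    M ^ n = c • (1 : Matrix ι ι K) := by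
  have := sub_pow_eq_zero (L := L) M (a := 1) (by rwa [pow_one])
  rwa [pow_one, sub_eq_zero] at this

theorem pow_char_pow_eq [Nonempty ι] (p : ℕ) [Fact p.Prime] [CharP K p] {N : Matrix ι ι K} {c : K} {a k : ℕ}
    (ha : a ≤ p ^ k) (h : (N - c • (1 : Matrix ι ι K)) ^ a = 0) :
    N ^ p ^ k = c ^ p ^ k • (1 : Matrix ι ι K) := by
  haveI : CharP (Matrix ι ι K) p := charP_of_injective_algebraMap' K p
  have h1 := pow_eq_zero_of_le ha h
  rw [sub_pow_char_pow_of_commute _ _ ((Commute.one_right N).smul_right c), sub_eq_zero] at h1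
  rw [h1, smul_pow, one_pow]

theorem X_sub_C_mul_dvd {a b : L} (hab : a ≠ b) {P : L[X]} (ha : X - C a ∣ P) (hb : X - C b ∣ P) :
    (X - C a) * (X - C b) ∣ P :=
  (Polynomial.isCoprime_X_sub_C_of_isUnit_sub (sub_ne_zero.2 hab).isUnit).mul_dvd ha hb

theorem X_sub_C_dvd_of_pow {a c : L} {n : ℕ} (h : a ^ n = c) : X - C a ∣ X ^ n - C c := by
  rw [dvd_iff_isRoot]; simp [h]

theorem quad_eq {l s : L} (hl : l ≠ 0) (hs : l + l⁻¹ = s) :
    (X ^ 2 - C s * X + 1 : L[X]) = (X - C l) * (X - C l⁻¹) := by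
  have h : C l * C l⁻¹ = (1 : L[X]) := by rw [← C_mul, mul_inv_cancel₀ hl, C_1]
  rw [← hs, C_add]
  linear_combination -h

theorem quad_root [IsAlgClosed L] (s : L) : ∃ l : L, l ≠ 0 ∧ l + l⁻¹ = s := by
  have hd : (X ^ 2 - C s * X + 1 : L[X]).natDegree = 2 := by compute_degree!
  obtain ⟨l, hl⟩ := IsAlgClosed.exists_root (X ^ 2 - C s * X + 1 : L[X]) (fun h => by
    have := natDegree_eq_zero_iff_degree_le_zero.2 h.le
    omega)
  simp only [IsRoot, eval_add, eval_sub, eval_mul, eval_pow, eval_X, eval_C, eval_one] at hl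
  have hl0 : l ≠ 0 := by rintro rfl; simp at hl
  refine ⟨l, hl0, ?_⟩
  field_simp
  linear_combination hl

theorem sq_ne_four {l s : L} (hl : l ≠ 0) (hs : l + l⁻¹ = s) (hne : l ≠ l⁻¹) : s ^ 2 ≠ 4 := by
  intro h
  apply hne
  have h1 : (l - l⁻¹) ^ 2 = 0 := by
    have := mul_inv_cancel₀ hl
    rw [← hs] at h
    linear_combination h - 4 * this
  exact sub_eq_zero.1 (pow_eq_zero_iff (n := 2) two_ne_zero |>.1 h1)

theorem eq_or_inv_eq {l m : L} (hl : l ≠ 0) (hm : m ≠ 0) (h : l + l⁻¹ = m + m⁻¹) : m = l ∨ m = l⁻¹ := by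
  have h1 := mul_inv_cancel₀ hl
  have h2 := mul_inv_cancel₀ hm
  have : (m - l) * (m - l⁻¹) = 0 := by linear_combination h1 - h2 - m * h
  rcases mul_eq_zero.1 this with h3 | h3
  · exact Or.inl (sub_eq_zero.1 h3)
  · exact Or.inr (sub_eq_zero.1 h3)

/-- Frobenius acts on a reciprocal pair. -/
theorem pow_sub_or_pow_add (p : ℕ) [Fact p.Prime] [CharP L p] {l s : L} (hl : l ≠ 0) (hs : l + l⁻¹ = s)
    {Q k : ℕ} (hQ : Q = p ^ k) (hfix : s ^ Q = s) : l ^ (Q - 1) = 1 ∨ l ^ (Q + 1) = 1 := by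
  have hQ1 : 1 ≤ Q := hQ ▸ Nat.one_le_pow _ _ (Fact.out : p.Prime).pos
  have h : l + l⁻¹ = l ^ Q + (l ^ Q)⁻¹ := by
    rw [← inv_pow, hs]
    conv_lhs => rw [← hfix, ← hs]
    rw [hQ, add_pow_char_pow]
  rcases eq_or_inv_eq hl (pow_ne_zero _ hl) h with h1 | h1
  · left
    refine mul_right_cancel₀ hl ?_
    rw [← pow_succ, Nat.sub_add_cancel hQ1, h1, one_mul]
  · right
    rw [pow_succ, h1, inv_mul_cancel₀ hl]

theorem charpoly_two (x : SpecialLinearGroup (Fin 2) K) :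
    (x : Matrix (Fin 2) (Fin 2) K).charpoly =
      X ^ 2 - C (x : Matrix (Fin 2) (Fin 2) K).trace * X + 1 := by
  rw [Matrix.charpoly_fin_two, x.2, C_1]

theorem pm_of_pow {y : L} {e : ℕ} (he : e ∣ 2) (h : y ^ e = 1) : y = 1 ∨ y = -1 := by
  obtain ⟨c, hc⟩ := he
  exact sq_eq_one_iff.1 (by rw [hc, pow_mul, h, one_pow])

/-- The trichotomy. -/
theorem sl2_cases (p : ℕ) [Fact p.Prime] [CharP K p] (x : SpecialLinearGroup (Fin 2) K) {Q k e : ℕ}
    (hQ : Q = p ^ k) (he : e ∣ 2)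
    (hfix : (x : Matrix (Fin 2) (Fin 2) K).trace ^ Q = (x : Matrix (Fin 2) (Fin 2) K).trace) :
    (∃ c : K, (c = 1 ∨ c = -1) ∧
        ((x : Matrix (Fin 2) (Fin 2) K) - c • (1 : Matrix (Fin 2) (Fin 2) K)) ^ 2 = 0) ∨
      (∀ H : ℕ, e * H = Q - 1 → ∃ c : K, (c = 1 ∨ c = -1) ∧
        (x : Matrix (Fin 2) (Fin 2) K) ^ H = c • (1 : Matrix (Fin 2) (Fin 2) K)) ∨
      (∀ H : ℕ, e * H = Q + 1 → ∃ c : K, (c = 1 ∨ c = -1) ∧
        (x : Matrix (Fin 2) (Fin 2) K) ^ H = c • (1 : Matrix (Fin 2) (Fin 2) K)) := by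
  let L := AlgebraicClosure K
  haveI : CharP L p := charP_of_injective_algebraMap (algebraMap K L).injective p
  set t := (x : Matrix (Fin 2) (Fin 2) K).trace with ht
  obtain ⟨l, hl, hs⟩ := quad_root (algebraMap K L t)
  have hch : (x : Matrix (Fin 2) (Fin 2) K).charpoly.map (algebraMap K L) = (X - C l) * (X - C l⁻¹) := by
    rw [charpoly_two, ← quad_eq hl hs]
    simp [ht]
  by_cases hne : l = l⁻¹
  · left
    have h1 : l ^ 2 = 1 := by rw [sq]; nth_rw 1 [hne]; exact inv_mul_cancel₀ hl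
    obtain ⟨c, hc, hlc⟩ : ∃ c : K, (c = 1 ∨ c = -1) ∧ algebraMap K L c = l := by
      rcases sq_eq_one_iff.1 h1 with h2 | h2
      · exact ⟨1, Or.inl rfl, by rw [map_one, h2]⟩
      · exact ⟨-1, Or.inr rfl, by rw [map_neg, map_one, h2]⟩
    refine ⟨c, hc, ?_⟩
    have := sub_pow_eq_zero (L := L) (x : Matrix (Fin 2) (Fin 2) K) (n := 1) (a := 2) (c := c)
      (by rw [hch, ← hne, hlc, pow_one, sq])
    simpa using this
  right
  have key : ∀ H, l ^ (e * H) = 1 → ∃ c : K, (c = 1 ∨ c = -1) ∧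
      (x : Matrix (Fin 2) (Fin 2) K) ^ H = c • (1 : Matrix (Fin 2) (Fin 2) K) := by
    intro H h
    rw [mul_comm, pow_mul] at h
    rcases pm_of_pow he h with h2 | h2
    · refine ⟨1, Or.inl rfl, pow_eq_of_dvd (L := L) _ ?_⟩
      rw [hch, map_one]
      exact X_sub_C_mul_dvd hne (X_sub_C_dvd_of_pow h2) (X_sub_C_dvd_of_pow (by rw [inv_pow, h2, inv_one]))
    · refine ⟨-1, Or.inr rfl, pow_eq_of_dvd (L := L) _ ?_⟩
      rw [hch, map_neg, map_one]
      exact X_sub_C_mul_dvd hne (X_sub_C_dvd_of_pow h2) (X_sub_C_dvd_of_pow (by rw [inv_pow, h2, inv_neg, inv_one]))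
  rcases pow_sub_or_pow_add p hl hs hQ (by rw [← map_pow, hfix]) with h | h
  · exact Or.inl fun H hH => key H (by rw [hH]; exact h)
  · exact Or.inr fun H hH => key H (by rw [hH]; exact h)

/-- An element of `SL₂` with an eigenvalue of prescribed order. -/
theorem exists_sl2_eigen (p : ℕ) [Fact p.Prime] [CharP K p] [Fintype K] {T : ℕ}
    (hT : T ∣ Fintype.card K - 1 ∨ T ∣ Fintype.card K + 1) :
    ∃ (x : SpecialLinearGroup (Fin 2) K) (l : AlgebraicClosure K), orderOf l = T ∧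
      aeval l (x : Matrix (Fin 2) (Fin 2) K).charpoly = 0 := by
  let L := AlgebraicClosure K
  haveI : CharP L p := charP_of_injective_algebraMap (algebraMap K L).injective p
  set Q := Fintype.card K with hQdef
  obtain ⟨k, hk, hQ⟩ := FiniteField.card K p
  rw [← hQdef] at hQ
  have hQ1 : 1 < Q := Fintype.one_lt_card
  have hT0 : (T : L) ≠ 0 := by
    rw [Ne, CharP.cast_eq_zero_iff L p]
    intro hpT
    have hpQ : p ∣ Q := hQ ▸ dvd_pow_self p k.pos.ne'
    have hp := (Fact.out : p.Prime)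
    rcases hT with hT | hT
    · have := Nat.dvd_sub hpQ (hpT.trans hT)
      rw [show Q - (Q - 1) = 1 by omega] at this
      exact hp.one_lt.ne' (Nat.dvd_one.1 this)
    · have := Nat.dvd_sub (hpT.trans hT) hpQ
      rw [show Q + 1 - Q = 1 by omega] at this
      exact hp.one_lt.ne' (Nat.dvd_one.1 this)
  haveI : NeZero (T : L) := ⟨hT0⟩
  obtain ⟨l, hl⟩ := HasEnoughRootsOfUnity.exists_primitiveRoot L T
  have hT1 : T ≠ 0 := fun h => hT0 (by rw [h, Nat.cast_zero])
  have hl0 : l ≠ 0 := hl.ne_zero hT1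
  have hfix : (l + l⁻¹) ^ Q = l + l⁻¹ := by
    have hh : (l + l⁻¹) ^ Q = l ^ Q + (l⁻¹) ^ Q := by rw [hQ, add_pow_char_pow]
    rw [hh, inv_pow]
    rcases hT with hT | hT
    · have h1 : l ^ (Q - 1) = 1 := hl.pow_eq_one_iff_dvd _ |>.2 hT
      rw [show l ^ Q = l by rw [show Q = Q - 1 + 1 by omega, pow_succ, h1, one_mul]]
    · have h1 : l ^ (Q + 1) = 1 := hl.pow_eq_one_iff_dvd _ |>.2 hT
      rw [pow_succ] at h1
      rw [eq_inv_of_mul_eq_one_left h1, inv_inv, add_comm]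
  obtain ⟨t, ht⟩ : ∃ t : K, algebraMap K L t = l + l⁻¹ := by
    have hroot : (l + l⁻¹) ∈ ((X ^ Q - X : K[X]).map (algebraMap K L)).roots := by
      rw [mem_roots (Polynomial.map_ne_zero (FiniteField.X_pow_card_sub_X_ne_zero K hQ1))]
      simp [hfix]
    rw [← Polynomial.roots_map_of_injective_of_card_eq_natDegree (algebraMap K L).injective
      (p := X ^ Q - X) (by
        rw [FiniteField.roots_X_pow_card_sub_X, FiniteField.X_pow_card_sub_X_natDegree_eq K hQ1]
        rfl), Multiset.mem_map] at hroot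
    obtain ⟨t, -, ht⟩ := hroot
    exact ⟨t, ht⟩
  refine ⟨⟨!![0, -1; 1, t], by simp [Matrix.det_fin_two_of]⟩, l, hl.eq_orderOf.symm, ?_⟩
  show aeval l (!![(0 : K), -1; 1, t]).charpoly = 0
  rw [Matrix.charpoly_fin_two]
  simp [Matrix.trace_fin_two_of, Matrix.det_fin_two_of, ht]

  linear_combination -(inv_mul_cancel₀ hl0)
/-- The divisor closure of a finite list of orders is the spectrum. -/
theorem range_orderOf_eq {G : Type*} [Group G] [Finite G] (S : Finset ℕ)
    (up : ∀ g : G, ∃ M ∈ S, orderOf g ∣ M) (low : ∀ M ∈ S, ∃ g : G, M ∣ orderOf g) :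
    Set.range (orderOf : G → ℕ) = {d | ∃ M ∈ S, d ∣ M} := by
  ext d
  constructor
  · rintro ⟨g, rfl⟩; exact up g
  · rintro ⟨M, hM, hd⟩
    obtain ⟨g, hg⟩ := low M hM
    exact ⟨g ^ (orderOf g / d), orderOf_pow_orderOf_div (orderOf_pos g).ne' (hd.trans hg)⟩

end CfsgLib.PSpFourSpec
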