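import Cfsg.Agent.Lib.PSpFourSpec.TensorAction
import Mathlib.FieldTheory.Finite.Basic

/-!
The witness for `q = 3 ^ m`, `m` even: a sixteen-dimensional twisted tensor module of `L₂(q²)`.
-/

set_option autoImplicit false

namespace CfsgLib.PSpFourSpec

open Polynomial Matrix Kronecker

variable {K : Type} [Field K] [CharP K 3] [Fact (Nat.Prime 3)] (m : ℕ)

/-- The index type. -/
abbrev TI : Type := (Fin 2 × Fin 2) × (Fin 2 × Fin 2)

/-- A Frobenius twist. -/
def frobMat (k : ℕ) (x : Matrix (Fin 2) (Fin 2) K) : Matrix (Fin 2) (Fin 2) K := x.map (iterateFrobenius K 3 k)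

/-- The twisted tensor. -/
def tw (x : Matrix (Fin 2) (Fin 2) K) : Matrix TI TI K :=
  (x ⊗ₖ frobMat 1 x) ⊗ₖ (frobMat m x ⊗ₖ frobMat m x)

theorem tw_mul (x y : Matrix (Fin 2) (Fin 2) K) : tw m (x * y) = tw m x * tw m y := by
  simp only [tw, frobMat, Matrix.map_mul, Matrix.mul_kronecker_mul]

theorem tw_one : tw m (1 : Matrix (Fin 2) (Fin 2) K) = 1 := by
  simp only [tw, frobMat, Matrix.map_one _ (map_zero _) (map_one _), Matrix.one_kronecker_one]

theorem tw_scalar {c : K} (hc : c = 1 ∨ c = -1) : tw m (c • (1 : Matrix (Fin 2) (Fin 2) K)) = 1 := by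
  rcases hc with rfl | rfl
  · rw [one_smul, tw_one]
  · have e : ∀ k, frobMat k (-(1 : Matrix (Fin 2) (Fin 2) K)) = -1 := fun k => by
      ext i j; simp only [frobMat, Matrix.map_apply, Matrix.neg_apply, map_neg]
      rw [Matrix.one_apply]; split_ifs <;> simp
    rw [neg_smul, one_smul, tw, e, e]
    ext ⟨⟨a, b⟩, c, d⟩ ⟨⟨a', b'⟩, c', d'⟩
    simp only [Matrix.kronecker_apply, Matrix.neg_apply, neg_mul_neg, Matrix.one_apply, Prod.mk.injEq]
    split_ifs <;> simp_all

/-- The representation. -/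
def twHom : SpecialLinearGroup (Fin 2) K →* Matrix TI TI K where
  toFun x := tw m x
  map_one' := tw_one m
  map_mul' x y := (congrArg (tw m) (Matrix.SpecialLinearGroup.coe_mul x y)).trans (tw_mul m _ _)

/-- The automorphism. -/
noncomputable def tau : SpecialLinearGroup (Fin 2) K →* (Module.End K (TI → K))ˣ := toAut (twHom m)

theorem tau_pow_eq_one {x : SpecialLinearGroup (Fin 2) K} {n : ℕ} {c : K} (hc : c = 1 ∨ c = -1)
    (h : (x : Matrix (Fin 2) (Fin 2) K) ^ n = c • 1) : tau m x ^ n = 1 := by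
  rw [← map_pow, tau, toAut_eq_one]
  show tw m ((x ^ n : SpecialLinearGroup (Fin 2) K) : Matrix (Fin 2) (Fin 2) K) = 1
  rw [Matrix.SpecialLinearGroup.coe_pow, h, tw_scalar m hc]

/-- The eigenvalues. -/
noncomputable def wt (l : AlgebraicClosure K) (i : TI) : AlgebraicClosure K :=
  (![l, l⁻¹] i.1.1 * ![l, l⁻¹] i.1.2 ^ 3) * (![l, l⁻¹] i.2.1 ^ 3 ^ m * ![l, l⁻¹] i.2.2 ^ 3 ^ m)

theorem isDiag_tw (x : SpecialLinearGroup (Fin 2) K) {l : AlgebraicClosure K}
    (hl : aeval l (x : Matrix (Fin 2) (Fin 2) K).charpoly = 0) (hne : l ≠ l⁻¹) :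
    IsDiag ((tw m (x : Matrix (Fin 2) (Fin 2) K)).map (algebraMap K (AlgebraicClosure K))) (wt m l) := by
  haveI : CharP (AlgebraicClosure K) 3 :=
    charP_of_injective_algebraMap (algebraMap K (AlgebraicClosure K)).injective 3
  have h := isDiag_sl2 x hl hne
  have h2 := (h.kronecker (h.map (iterateFrobenius (AlgebraicClosure K) 3 1))).kronecker
    ((h.map (iterateFrobenius (AlgebraicClosure K) 3 m)).kronecker (h.map (iterateFrobenius (AlgebraicClosure K) 3 m)))
  simp only [← map_frob 3, ← kronecker_map_alg] at h2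
  unfold wt
  simpa [iterateFrobenius_def, frobenius_def, wt, tw, frobMat] using h2

theorem pow_wt_eq_one {x : SpecialLinearGroup (Fin 2) K} {l : AlgebraicClosure K}
    (hl : aeval l (x : Matrix (Fin 2) (Fin 2) K).charpoly = 0) (hne : l ≠ l⁻¹) {n : ℕ}
    (h : tau m x ^ n = 1) : l ^ (2 * n) = 1 := by
  rw [← map_pow, tau, toAut_eq_one, map_pow] at h
  have h' := congrArg (fun A => (algebraMap K (AlgebraicClosure K)).mapMatrix A) h
  simp only [map_pow, map_one] at h'
  have a := (isDiag_tw m x hl hne).pow_eq_one h' ((0, 1), (0, 1))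
  have hl0 : l ≠ 0 := by rintro rfl; exact hne (_root_.inv_zero).symm
  simp only [wt, Matrix.cons_val_zero, Matrix.cons_val_one, inv_pow] at a
  rw [mul_inv_cancel₀ (pow_ne_zero _ hl0), mul_one, show l * (l ^ 3)⁻¹ = (l ^ 2)⁻¹ by field_simp,
    inv_pow, inv_eq_one, ← pow_mul] at a
  exact a

theorem tau_pow_of_sq {x : SpecialLinearGroup (Fin 2) K} {l : AlgebraicClosure K}
    (hl : aeval l (x : Matrix (Fin 2) (Fin 2) K).charpoly = 0) (hne : l ≠ l⁻¹) {T : ℕ} (hT : (l ^ T) ^ 2 = 1) :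
    tau m x ^ T = 1 := by
  let L := AlgebraicClosure K
  have hl0 : l ≠ 0 := by rintro rfl; exact hne (_root_.inv_zero).symm
  rw [charpoly_two] at hl
  simp only [map_add, map_sub, map_mul, map_pow, aeval_X, aeval_C, map_one] at hl
  have hls : l + l⁻¹ = algebraMap K L (x : Matrix (Fin 2) (Fin 2) K).trace := by
    field_simp
    linear_combination hl
  have hch : (x : Matrix (Fin 2) (Fin 2) K).charpoly.map (algebraMap K L) = (X - C l) * (X - C l⁻¹) := by
    rw [charpoly_two, ← quad_eq hl0 hls]; simp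
  rcases sq_eq_one_iff.1 hT with h | h
  · exact tau_pow_eq_one m (Or.inl rfl) (pow_eq_of_dvd (L := L) _ (by
      rw [hch, map_one]
      exact X_sub_C_mul_dvd hne (X_sub_C_dvd_of_pow h) (X_sub_C_dvd_of_pow (by rw [inv_pow, h, inv_one]))))
  · exact tau_pow_eq_one m (Or.inr rfl) (pow_eq_of_dvd (L := L) _ (by
      rw [hch, map_neg, map_one]
      exact X_sub_C_mul_dvd hne (X_sub_C_dvd_of_pow h)
        (X_sub_C_dvd_of_pow (by rw [inv_pow, h, inv_neg, inv_one]))))

theorem inner_cases_tw [Fintype K] (hK : Fintype.card K = 3 ^ (m * 2)) (hmev : Even m) {Hm Hp : ℕ}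
    (hm : 2 * Hm = 3 ^ (m * 2) - 1) (hp : 2 * Hp = 3 ^ (m * 2) + 1) (x : SpecialLinearGroup (Fin 2) K) :
    tau m x ^ 3 = 1 ∨
      ((tau m x ^ Hm = 1 ∨ tau m x ^ Hp = 1) ∧
        ((∃ v : TI → K, v ≠ 0 ∧ tau m x • v = v) →
          tau m x ^ (3 ^ m - 1) = 1 ∨ tau m x ^ (3 ^ m + 1) = 1)) := by
  by_cases hu : ∃ c : K, (c = 1 ∨ c = -1) ∧ ((x : Matrix (Fin 2) (Fin 2) K) - c • 1) ^ 2 = 0
  · left
    obtain ⟨c, hc, h⟩ := hu
    have h2 := pow_char_pow_eq 3 (k := 1) (by norm_num) h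
    rw [pow_one] at h2
    refine tau_pow_eq_one m (c := c ^ 3) ?_ h2
    rcases hc with rfl | rfl
    · exact Or.inl (one_pow _)
    · exact neg_one_pow_eq_or K _
  right
  refine ⟨?_, ?_⟩
  · rcases (sl2_cases 3 x rfl (dvd_refl 2) (by rw [← hK]; exact FiniteField.pow_card _)).resolve_left hu with h | h
    · obtain ⟨c, hc, h'⟩ := h _ hm
      exact Or.inl (tau_pow_eq_one m hc h')
    · obtain ⟨c, hc, h'⟩ := h _ hp
      exact Or.inr (tau_pow_eq_one m hc h')
  · rintro ⟨v, hv, hgv⟩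
    let L := AlgebraicClosure K
    haveI : CharP L 3 := charP_of_injective_algebraMap (algebraMap K L).injective 3
    obtain ⟨l, hl0, hls⟩ := quad_root (algebraMap K L (x : Matrix (Fin 2) (Fin 2) K).trace)
    have hch : (x : Matrix (Fin 2) (Fin 2) K).charpoly.map (algebraMap K L) = (X - C l) * (X - C l⁻¹) := by
      rw [charpoly_two, ← quad_eq hl0 hls]; simp
    have hne : l ≠ l⁻¹ := fun hll => by
      have h1 : l ^ 2 = 1 := by rw [sq]; nth_rw 1 [hll]; exact inv_mul_cancel₀ hl0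
      obtain ⟨c, hc, hlc⟩ : ∃ c : K, (c = 1 ∨ c = -1) ∧ algebraMap K L c = l := by
        rcases sq_eq_one_iff.1 h1 with h2 | h2
        · exact ⟨1, Or.inl rfl, by rw [map_one, h2]⟩
        · exact ⟨-1, Or.inr rfl, by rw [map_neg, map_one, h2]⟩
      refine hu ⟨c, hc, ?_⟩
      have := sub_pow_eq_zero (L := L) (x : Matrix (Fin 2) (Fin 2) K) (n := 1) (a := 2) (c := c)
        (by rw [hch, ← hll, hlc, pow_one, sq])
      simpa using this
    have hl : aeval l (x : Matrix (Fin 2) (Fin 2) K).charpoly = 0 := by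
      rw [aeval_def, ← eval_map, hch]; simp
    rw [tau, toAut_smul] at hgv
    obtain ⟨⟨⟨i, j⟩, k, r⟩, hij⟩ := (isDiag_tw m x hl hne).exists_eq_one (v := fun i => algebraMap K L (v i))
      (fun h0 => hv (funext fun i => (algebraMap K L).injective (by
        rw [Pi.zero_apply, map_zero]; exact congrFun h0 i)))
      (funext fun i => by
        have := congrArg (algebraMap K L) (congrFun hgv i)
        rw [RingHom.map_mulVec] at this
        exact this)
    set q := 3 ^ m with hq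
    have hq1 : 1 ≤ q := Nat.one_le_pow _ _ (by norm_num)
    set μ := l ^ 2 with hμ
    have hμ0 : μ ≠ 0 := pow_ne_zero _ hl0
    have good : μ ^ q = μ ∨ μ ^ q = μ⁻¹ → tau m x ^ (q - 1) = 1 ∨ tau m x ^ (q + 1) = 1 := by
      rintro (h | h)
      · refine Or.inl (tau_pow_of_sq m hl hne ?_)
        rw [← pow_mul, mul_comm, pow_mul, ← hμ]
        refine mul_right_cancel₀ hμ0 ?_
        rw [← pow_succ, Nat.sub_add_cancel hq1, one_mul, h]
      · refine Or.inr (tau_pow_of_sq m hl hne ?_)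
        rw [← pow_mul, mul_comm, pow_mul, ← hμ, pow_succ, h, inv_mul_cancel₀ hμ0]
    have hfour : μ ^ 2 = 1 → μ ^ q = μ ∨ μ ^ q = μ⁻¹ := fun h => by
      obtain ⟨s, hs⟩ : Odd q := hq ▸ (show Odd 3 by decide).pow
      left
      rw [hs, pow_succ, pow_mul, h, one_pow, one_mul]
    have hQ : μ ^ (q ^ 2) = μ ∨ μ ^ (q ^ 2) = μ⁻¹ := by
      have hfix : (l + l⁻¹) ^ (q ^ 2) = l + l⁻¹ := by
        rw [hls, ← map_pow, show q ^ 2 = Fintype.card K by rw [hK, hq, ← pow_mul], FiniteField.pow_card]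
      rcases pow_sub_or_pow_add 3 hl0 rfl (k := m * 2) (by rw [hq, ← pow_mul]) hfix with h | h
      · left
        rw [hμ, ← pow_mul, mul_comm, pow_mul]
        congr 1
        rw [show q ^ 2 = q ^ 2 - 1 + 1 by have := Nat.one_le_pow 2 q hq1; omega, pow_succ, h, one_mul]
      · right
        rw [pow_succ] at h
        rw [hμ, ← pow_mul, mul_comm, pow_mul, eq_inv_of_mul_eq_one_left h, inv_pow]
    have hmix : μ ^ q = μ ^ 2 ∨ μ ^ q = (μ ^ 2)⁻¹ → μ ^ q = μ ∨ μ ^ q = μ⁻¹ := by
      intro h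
      have h4 : μ ^ (q ^ 2) = μ ^ 4 := by
        rw [sq, pow_mul]
        rcases h with h | h <;> rw [h]
        · rw [← pow_mul, mul_comm, pow_mul, h, ← pow_mul]
        · rw [inv_pow, ← pow_mul, mul_comm, pow_mul, h, inv_pow, inv_inv, ← pow_mul]
      have h3 : μ ^ 3 = 1 → μ ^ 2 = 1 := fun h3 => by
        have : (μ - 1) ^ 3 = 0 := by rw [sub_pow_char, h3, one_pow, sub_self]
        rw [sub_eq_zero.1 (pow_eq_zero_iff (n := 3) (by norm_num) |>.1 this), one_pow]
      refine hfour (h3 ?_)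
      rcases hQ with hh | hh
      · rw [h4] at hh
        exact mul_right_cancel₀ hμ0 (by rw [one_mul, ← pow_succ, hh])
      · rw [h4] at hh
        have h5 : μ ^ 5 = 1 := by rw [pow_succ, hh, inv_mul_cancel₀ hμ0]
        obtain ⟨s, hs⟩ := hmev
        have hmod : q ^ 2 % 5 = 1 := by
          rw [hq, ← pow_mul, show m * 2 = 4 * s by omega, pow_mul, Nat.pow_mod]
          norm_num
        have h6 : μ ^ (q ^ 2) = μ := by
          rw [← Nat.div_add_mod (q ^ 2) 5, pow_add, pow_mul, h5, one_pow, one_mul, hmod, pow_one]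
        rw [h4] at h6
        exact mul_right_cancel₀ hμ0 (by rw [one_mul, ← pow_succ, h6])
    have hA : (![l, l⁻¹] i * ![l, l⁻¹] j ^ 3 = μ ^ 2 ∨ ![l, l⁻¹] i * ![l, l⁻¹] j ^ 3 = (μ ^ 2)⁻¹) ∨
        (![l, l⁻¹] i * ![l, l⁻¹] j ^ 3 = μ ∨ ![l, l⁻¹] i * ![l, l⁻¹] j ^ 3 = μ⁻¹) := by
      fin_cases i <;> fin_cases j <;> simp only [Fin.zero_eta, Fin.mk_one, Fin.isValue, Matrix.cons_val_zero,
        Matrix.cons_val_one]
      · exact Or.inl (Or.inl (by rw [hμ]; ring))
      · exact Or.inr (Or.inr (by rw [hμ, inv_pow, pow_succ' l 2, mul_inv, mul_inv_cancel_left₀ hl0]))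
      · exact Or.inr (Or.inl (by rw [hμ, pow_succ' l 2, inv_mul_cancel_left₀ hl0]))
      · exact Or.inl (Or.inr (by rw [hμ, inv_pow, ← mul_inv]; ring))
    have hB : ![l, l⁻¹] k ^ q * ![l, l⁻¹] r ^ q = 1 ∨ ![l, l⁻¹] k ^ q * ![l, l⁻¹] r ^ q = μ ^ q ∨
        ![l, l⁻¹] k ^ q * ![l, l⁻¹] r ^ q = (μ ^ q)⁻¹ := by
      fin_cases k <;> fin_cases r <;> simp only [Fin.zero_eta, Fin.mk_one, Fin.isValue, Matrix.cons_val_zero,
        Matrix.cons_val_one, ← mul_pow, inv_mul_cancel₀ hl0, mul_inv_cancel₀ hl0, one_pow, true_or]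
      · exact Or.inr (Or.inl (by rw [hμ, sq]))
      · exact Or.inr (Or.inr (by rw [hμ, sq, ← inv_pow, mul_inv]))
    apply good
    rw [wt] at hij
    rcases hB with hb | hb | hb <;> rw [hb] at hij
    · rw [mul_one] at hij
      rcases hA with (ha | ha) | (ha | ha) <;> rw [ha] at hij
      · exact hfour hij
      · exact hfour (inv_eq_one.1 hij)
      · exact Or.inl (by rw [hij, one_pow])
      · exact Or.inl (by rw [inv_eq_one.1 hij, one_pow])
    · rcases hA with (ha | ha) | (ha | ha) <;> rw [ha] at hij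
      · exact hmix (Or.inr (eq_inv_of_mul_eq_one_right hij))
      · exact hmix (Or.inl ((inv_mul_eq_one₀ (pow_ne_zero _ hμ0)).1 hij).symm)
      · exact Or.inr (eq_inv_of_mul_eq_one_right hij)
      · exact Or.inl ((inv_mul_eq_one₀ hμ0).1 hij).symm
    · rcases hA with (ha | ha) | (ha | ha) <;> rw [ha] at hij
      · exact hmix (Or.inl ((mul_inv_eq_one₀ (pow_ne_zero _ hμ0)).1 hij).symm)
      · exact hmix (Or.inr (eq_inv_of_mul_eq_one_right (by rwa [← mul_inv, inv_eq_one] at hij)))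
      · exact Or.inl ((mul_inv_eq_one₀ (pow_ne_zero _ hμ0)).1 hij).symm
      · exact Or.inr (eq_inv_of_mul_eq_one_right (by rwa [← mul_inv, inv_eq_one] at hij))

theorem exists_fixed_tw (x : SpecialLinearGroup (Fin 2) K) {u : TI → AlgebraicClosure K}
    (hd : IsDiag ((tw m (x : Matrix (Fin 2) (Fin 2) K)).map (algebraMap K (AlgebraicClosure K))) u) {i : TI}
    (hi : u i = 1) : ∃ v : TI → K, v ≠ 0 ∧ tau m x • v = v := by
  obtain ⟨P, hP, hP'⟩ := hd
  have h0 : ((tw m (x : Matrix (Fin 2) (Fin 2) K)).map (algebraMap K (AlgebraicClosure K)) - 1).det = 0 := by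
    have h1 : ((tw m (x : Matrix (Fin 2) (Fin 2) K)).map (algebraMap K (AlgebraicClosure K)) - 1) * P =
        P * (diagonal u - 1) := by
      rw [sub_mul, mul_sub, hP', one_mul, mul_one]
    have h2 := congrArg Matrix.det h1
    rw [det_mul, det_mul, show (diagonal u - 1 : Matrix TI TI (AlgebraicClosure K)) = diagonal (fun j => u j - 1)
      by rw [← diagonal_one, diagonal_sub], det_diagonal,
      Finset.prod_eq_zero (Finset.mem_univ i) (by rw [hi, sub_self]), mul_zero, mul_eq_zero] at h2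
    exact h2.resolve_right hP
  have h0' : (tw m (x : Matrix (Fin 2) (Fin 2) K) - 1).det = 0 := by
    apply (algebraMap K (AlgebraicClosure K)).injective
    rw [map_zero, RingHom.map_det, map_sub, map_one]
    exact h0
  obtain ⟨v, hv, h⟩ := Matrix.exists_mulVec_eq_zero_iff.2 h0'
  refine ⟨v, hv, ?_⟩
  rw [tau, toAut_smul]
  rw [Matrix.sub_mulVec, Matrix.one_mulVec, sub_eq_zero] at h
  exact h

/-- The witness. -/
theorem witness_three [Fintype K] (hm2 : 2 ≤ m) (hmev : Even m) (hK : Fintype.card K = 3 ^ (m * 2)) (N : ℕ) :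
    ∃ (H : Type) (_ : Group H) (_ : Fintype H), N < Fintype.card H ∧
      Set.range (orderOf : H → ℕ) = {d | ∃ M ∈ specFour 3 (3 ^ m), d ∣ M} := by
  set q := 3 ^ m with hq
  obtain ⟨hm1, hp1, -, -, -⟩ := eFac_facts 3 (q := q) hq (by omega)
  have he : eFac 3 = 2 := rfl
  have hqq : q ^ 2 = 3 ^ (m * 2) := (pow_mul _ _ _).symm
  rw [he, hqq] at hm1 hp1
  have hc : Nat.clog 3 4 = 2 := by
    rw [Nat.clog_of_two_le (by norm_num) (by norm_num)]
    norm_num [Nat.clog_eq_one]
  have hspec : ∀ M, M ∈ specFour 3 q ↔ M = (3 ^ (m * 2) - 1) / 2 ∨ M = (3 ^ (m * 2) + 1) / 2 ∨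
      M = 3 * (q - 1) ∨ M = 3 * (q + 1) ∨ M = 9 := by
    intro M; simp [specFour, specList, hc, he, hqq]
  have hq9 : 9 ≤ q := le_trans (by norm_num) (Nat.pow_le_pow_right (by norm_num : 0 < 3) hm2)
  refine exists_big (X := (tau (K := K) m).range) (W := TI → K) Nat.prime_three (fun w => ?_)
    (w := Pi.single ((0, 0), (0, 0)) 1) (by simp) _ (fun g => ?_) (fun g w hw => ?_) (fun M hM => ?_) N
  · rw [← Nat.cast_smul_eq_nsmul K, CharP.cast_eq_zero K 3, zero_smul]
  · obtain ⟨g, x, rfl⟩ := g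
    rw [← Subgroup.orderOf_coe]
    rcases inner_cases_tw m hK hmev hm1 hp1 x with h | ⟨h, -⟩
    · exact ⟨3 * (q - 1), by simp [hspec], (orderOf_dvd_of_pow_eq_one h).trans (dvd_mul_right _ _)⟩
    · rcases h with h | h
      · exact ⟨_, (hspec _).2 (Or.inl rfl), orderOf_dvd_of_pow_eq_one h⟩
      · exact ⟨_, (hspec _).2 (Or.inr (Or.inl rfl)), orderOf_dvd_of_pow_eq_one h⟩
  · obtain ⟨g, x, rfl⟩ := g
    rw [← Subgroup.orderOf_coe]
    rcases inner_cases_tw m hK hmev hm1 hp1 x with h | ⟨-, h⟩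
    · exact ⟨9, by simp [hspec], Nat.mul_dvd_mul_left 3 (orderOf_dvd_of_pow_eq_one h)⟩
    · rcases h ⟨_, hw, smul_nm (⟨tau m x, x, rfl⟩ : (tau (K := K) m).range) w⟩ with h | h
      · exact ⟨3 * (q - 1), by simp [hspec], Nat.mul_dvd_mul_left 3 (orderOf_dvd_of_pow_eq_one h)⟩
      · exact ⟨3 * (q + 1), by simp [hspec], Nat.mul_dvd_mul_left 3 (orderOf_dvd_of_pow_eq_one h)⟩
  · have tor : ∀ H, 2 ≤ H → (2 * H ∣ Fintype.card K - 1 ∨ 2 * H ∣ Fintype.card K + 1) →
        ∃ (x : SpecialLinearGroup (Fin 2) K) (l : AlgebraicClosure K), orderOf l = 2 * H ∧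
          aeval l (x : Matrix (Fin 2) (Fin 2) K).charpoly = 0 ∧ l ≠ l⁻¹ ∧ H ∣ orderOf (tau m x) := by
      intro H hH2 hH
      obtain ⟨x, l, hlo, hl⟩ := exists_sl2_eigen (K := K) 3 hH
      have hne : l ≠ l⁻¹ := fun h => by
        have hl0 : l ≠ 0 := by rintro rfl; rw [orderOf_zero] at hlo; omega
        have h2 : l ^ 2 = 1 := by rw [sq]; nth_rw 1 [h]; exact inv_mul_cancel₀ hl0
        have := Nat.le_of_dvd two_pos (orderOf_dvd_of_pow_eq_one h2)
        omega
      refine ⟨x, l, hlo, hl, hne, ?_⟩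
      have := hlo ▸ orderOf_dvd_of_pow_eq_one (pow_wt_eq_one m hl hne (pow_orderOf_eq_one (tau m x)))
      exact (Nat.mul_dvd_mul_iff_left two_pos).1 this
    have hqodd : Odd q := hq ▸ (show Odd 3 by decide).pow
    have fix : ∀ T, (T = q - 1 ∨ T = q + 1) →
        ∃ g : (tau (K := K) m).range, (∃ w : TI → K, ModuleExt.nm g w ≠ 0) ∧ 3 * T ∣ 3 * orderOf g := by
      intro T hT
      obtain ⟨s, hs⟩ := hqodd
      have hsq : q ^ 2 - 1 = (q + 1) * (q - 1) := by simpa using Nat.sq_sub_sq q 1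
      have hTd : 2 * T ∣ Fintype.card K - 1 := by
        rw [hK, ← hqq, hsq]
        rcases hT with rfl | rfl
        · exact Nat.mul_dvd_mul ⟨s + 1, by omega⟩ dvd_rfl
        · rw [mul_comm 2 (q + 1)]; exact Nat.mul_dvd_mul dvd_rfl ⟨s, by omega⟩
      obtain ⟨x, l, hlo, hl, hne, hd1⟩ := tor T (by omega) (Or.inl hTd)
      have hl0 : l ≠ 0 := by rintro rfl; exact hne (_root_.inv_zero).symm
      have hlT : (l ^ T) ^ 2 = 1 := by rw [← pow_mul, mul_comm, ← hlo, pow_orderOf_eq_one]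
      obtain ⟨v, hv, hgv⟩ : ∃ v : TI → K, v ≠ 0 ∧ tau m x • v = v := by
        rcases hT with rfl | rfl
        · refine exists_fixed_tw m x (isDiag_tw m x hl hne) (i := ((0, 1), (0, 0))) ?_
          simp only [wt, Matrix.cons_val_zero, Matrix.cons_val_one]
          have e : l ^ q = l ^ (q - 1) * l := by rw [← pow_succ]; congr 1; omega
          rw [← hq, e]
          field_simp
          linear_combination hlT
        · refine exists_fixed_tw m x (isDiag_tw m x hl hne) (i := ((1, 0), (0, 0))) ?_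
          simp only [wt, Matrix.cons_val_zero, Matrix.cons_val_one]
          rw [← hq]
          rw [pow_succ] at hlT
          field_simp
          linear_combination hlT
      refine ⟨⟨tau m x, x, rfl⟩, ⟨v, ?_⟩, ?_⟩
      · rw [nm_eq_nsmul (show (⟨tau m x, x, rfl⟩ : (tau (K := K) m).range) • v = v from hgv),
          ← Subgroup.orderOf_coe, ← Nat.cast_smul_eq_nsmul K, Ne, smul_eq_zero]
        rintro (h | h)
        · have h3 : 3 ∣ T := ((CharP.cast_eq_zero_iff K 3 _).1 h).trans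
            (orderOf_dvd_of_pow_eq_one (tau_pow_of_sq m hl hne hlT))
          have h3q : 3 ∣ q := hq ▸ dvd_pow_self 3 (by omega)
          omega
        · exact hv h
      · rw [← Subgroup.orderOf_coe]
        exact Nat.mul_dvd_mul_left 3 hd1
    rcases (hspec M).1 hM with rfl | rfl | rfl | rfl | rfl
    · obtain ⟨x, l, -, -, -, hd⟩ := tor ((3 ^ (m * 2) - 1) / 2)
        (by rw [← hqq]; have := Nat.pow_le_pow_left hq9 2; omega)
        (Or.inl (by rw [hK, hm1]))
      exact Or.inl ⟨⟨tau m x, x, rfl⟩, by rw [← Subgroup.orderOf_coe]; exact hd⟩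
    · obtain ⟨x, l, -, -, -, hd⟩ := tor ((3 ^ (m * 2) + 1) / 2)
        (by rw [← hqq]; have := Nat.pow_le_pow_left hq9 2; omega)
        (Or.inr (by rw [hK, hp1]))
      exact Or.inl ⟨⟨tau m x, x, rfl⟩, by rw [← Subgroup.orderOf_coe]; exact hd⟩
    · exact Or.inr (fix _ (Or.inl rfl))
    · exact Or.inr (fix _ (Or.inr rfl))
    · let u : SpecialLinearGroup (Fin 2) K := ⟨!![1, 1; 0, 1], by simp [Matrix.det_fin_two_of]⟩
      have e3 : (3 : K) = 0 := CharP.cast_eq_zero K 3
      have hcoe : ∀ j : ℕ, ((u ^ j : SpecialLinearGroup (Fin 2) K) : Matrix (Fin 2) (Fin 2) K) =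
          !![1, (j : K); 0, 1] := by
        intro j
        induction j with
        | zero => ext a b; fin_cases a <;> fin_cases b <;> simp
        | succ j ih =>
          rw [pow_succ]
          refine ((u ^ j).coe_mul u).trans ?_
          rw [ih]
          ext a b; fin_cases a <;> fin_cases b <;> simp [u, add_comm]
      have val : ∀ j : ℕ, (tau m u ^ j • (Pi.single ((1, 1), (0, 0)) 1 : TI → K)) ((0, 0), (0, 0)) =
          (j : K) * (j : K) ^ 3 := by
        intro j
        rw [← map_pow, tau, toAut_smul, Matrix.mulVec_single_one]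
        show tw m ((u ^ j : SpecialLinearGroup (Fin 2) K) : Matrix (Fin 2) (Fin 2) K) ((0, 0), (0, 0)) ((1, 1), (0, 0)) = _
        rw [hcoe]
        simp only [tw, frobMat, Matrix.kronecker_apply, Matrix.map_apply, Matrix.of_apply, Matrix.cons_val_zero,
          Matrix.cons_val_one, iterateFrobenius_def, pow_one, one_pow, mul_one, Matrix.cons_val']
      have hu3 : orderOf (tau m u) = 3 := by
        refine orderOf_eq_prime (tau_pow_eq_one m (c := 1) (Or.inl rfl) ?_) ?_
        · rw [← Matrix.SpecialLinearGroup.coe_pow, hcoe, one_smul]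
          ext a b; fin_cases a <;> fin_cases b <;> simp [e3]
        · intro h
          have := val 1
          rw [pow_one, h, one_smul] at this
          simp at this
      refine Or.inr ⟨⟨tau m u, u, rfl⟩, ⟨Pi.single ((1, 1), (0, 0)) 1, fun h0 => ?_⟩, ?_⟩
      · have h2 := congrFun h0 ((0, 0), (0, 0))
        rw [ModuleExt.nm, ← Subgroup.orderOf_coe, hu3, Finset.sum_apply] at h2
        simp only [Finset.sum_range_succ, Finset.sum_range_zero, Subgroup.smul_def, SubgroupClass.coe_pow,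
          zero_add, val, Pi.zero_apply] at h2
        norm_num at h2
        have e2 : (2 : K) = 0 := by linear_combination h2 - 5 * e3
        have : (1 : K) = 0 := by linear_combination e3 - e2
        exact one_ne_zero this
      · rw [← Subgroup.orderOf_coe, hu3]

end CfsgLib.PSpFourSpec
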