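import Cfsg.Agent.Lib.PSpFourSpec.Tools
import Cfsg.Agent.Lib.Spectrum.SympElements
import Cfsg.Agent.Lib.Semisimple.SelfDual.Symplectic

/-!
The element orders of `PSp₄(q)`: the upper bound.
-/

set_option autoImplicit false

namespace CfsgLib.PSpFourSpec

open Polynomial Matrix

variable {F : Type*} [Field F]

/-- The candidates for the maximal element orders. -/
def specList (p q Hm Hp : ℕ) : Finset ℕ :=
  {Hm, Hp, p * (q - 1), p * (q + 1), p ^ Nat.clog p 4}

theorem orderOf_pspMk_dvd (g : symplecticGroup (Fin 2) F) {T : ℕ} {c : F} (hc : c = 1 ∨ c = -1)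
    (h : (g : Matrix (Fin 2 ⊕ Fin 2) (Fin 2 ⊕ Fin 2) F) ^ T = c • 1) :
    orderOf (QuotientGroup.mk g : Cfsg.PSp 2 F) ∣ T := by
  refine orderOf_dvd_of_pow_eq_one ((Spectrum.pspMk_pow_eq_one_iff one_le_two g T).2 ?_)
  rcases hc with rfl | rfl
  · exact Or.inl (by rw [h, one_smul])
  · exact Or.inr (by rw [h, neg_smul, one_smul])

theorem charpoly_symplectic_four [Fintype F] (g : symplecticGroup (Fin 2) F) :
    ∃ a b : F, (g : Matrix (Fin 2 ⊕ Fin 2) (Fin 2 ⊕ Fin 2) F).charpoly =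
      X ^ 4 + C a * X ^ 3 + C b * X ^ 2 + C a * X + 1 := by
  set P := (g : Matrix (Fin 2 ⊕ Fin 2) (Fin 2 ⊕ Fin 2) F).charpoly with hP
  obtain ⟨h0, hrev⟩ := Semisimple.symplectic_charpoly _ g.2
  have hd : P.natDegree = 4 := by
    rw [hP, Matrix.charpoly_natDegree_eq_dim, Fintype.card_sum, Fintype.card_fin]
  rw [← hP] at h0 hrev
  have h13 : P.coeff 3 = P.coeff 1 := Semisimple.coeff_rev_self hd hrev (i := 1) (by norm_num)
  refine ⟨P.coeff 1, P.coeff 2, ?_⟩
  conv_lhs => rw [P.as_sum_range' 5 (by omega)]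
  have h4 : P.coeff 4 = 1 := hd ▸ (Matrix.charpoly_monic _).coeff_natDegree
  simp only [Finset.sum_range_succ, Finset.sum_range_zero, zero_add, h0, h13, h4, ← C_mul_X_pow_eq_monomial,
    pow_zero, mul_one, pow_one, map_one, one_mul]
  ring

theorem orderOf_psp_four_dvd [Fintype F] (p : ℕ) [Fact p.Prime] [CharP F p] {e Hm Hp : ℕ} (he : e ∣ 2)
    (hm : e * Hm = Fintype.card F ^ 2 - 1) (hp : e * Hp = Fintype.card F ^ 2 + 1)
    (hm1 : Fintype.card F - 1 ∣ Hm) (hm2 : Fintype.card F + 1 ∣ Hm) (g : Cfsg.PSp 2 F) :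
    ∃ M ∈ specList p (Fintype.card F) Hm Hp, orderOf g ∣ M := by
  obtain ⟨g, rfl⟩ := QuotientGroup.mk_surjective g
  haveI : Nonempty (Fin 2 ⊕ Fin 2) := ⟨.inl 0⟩
  set q := Fintype.card F with hq
  set N := (g : Matrix (Fin 2 ⊕ Fin 2) (Fin 2 ⊕ Fin 2) F) with hN
  let L := AlgebraicClosure F
  haveI : CharP L p := charP_of_injective_algebraMap (algebraMap F L).injective p
  obtain ⟨m, -, hqm⟩ := FiniteField.card F p
  rw [← hq] at hqm
  have hq1 : 1 < q := Fintype.one_lt_card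
  obtain ⟨a, b, hab⟩ := charpoly_symplectic_four g
  set A := algebraMap F L a with hA
  set B := algebraMap F L b with hB
  obtain ⟨s, hs⟩ : ∃ s : L, s ^ 2 + A * s + (B - 2) = 0 := by
    have hd : (X ^ 2 + C A * X + C (B - 2) : L[X]).natDegree = 2 := by compute_degree!
    obtain ⟨s, hs⟩ := IsAlgClosed.exists_root (X ^ 2 + C A * X + C (B - 2) : L[X]) (fun h => by
      have := natDegree_eq_zero_iff_degree_le_zero.2 h.le
      omega)
    exact ⟨s, by simpa [IsRoot] using hs⟩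
  set r := -A - s with hr
  have hsum : s + r = -A := by rw [hr]; ring
  have hmul : s * r = B - 2 := by rw [hr]; linear_combination -hs
  have hP : N.charpoly.map (algebraMap F L) = (X ^ 2 - C s * X + 1) * (X ^ 2 - C r * X + 1) := by
    rw [hab]
    simp only [Polynomial.map_add, Polynomial.map_mul, Polynomial.map_pow, map_X, map_C, Polynomial.map_one,
      ← hA, ← hB]
    have e1 : C A = -(C s + C r) := by rw [← C_add, hsum, C_neg, neg_neg]
    have e2 : C B = C s * C r + C 2 := by rw [← C_mul, ← C_add, hmul, sub_add_cancel]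
    rw [e1, e2, show (C 2 : L[X]) = 2 from map_ofNat C 2]
    ring
  have hfixF : ∀ x : F, (algebraMap F L x) ^ q = algebraMap F L x := fun x => by
    rw [← map_pow, FiniteField.pow_card]
  have hadd : ∀ x y : L, (x + y) ^ q = x ^ q + y ^ q := fun x y => by rw [hqm, add_pow_char_pow]
  have hperm : ∀ x y : L, x + y = -A → x * y = B - 2 → x ^ q = x ∨ x ^ q = y := by
    intro x y h1 h2
    have e1 : x ^ q + y ^ q = x + y := by
      rw [← hadd, h1, hA, ← map_neg, hfixF]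
    have e2 : x ^ q * y ^ q = x * y := by
      rw [← mul_pow, h2, show B - 2 = algebraMap F L (b - 2) by rw [map_sub, map_ofNat, hB], hfixF]
    have : (x ^ q - x) * (x ^ q - y) = 0 := by linear_combination x ^ q * e1 - e2
    exact (mul_eq_zero.1 this).imp sub_eq_zero.1 sub_eq_zero.1
  have mem : ∀ {T : ℕ} {M : ℕ}, M ∈ specList p q Hm Hp → T ∣ M → ∀ {c : F}, (c = 1 ∨ c = -1) →
      N ^ T = c • 1 → ∃ M ∈ specList p q Hm Hp, orderOf (QuotientGroup.mk g : Cfsg.PSp 2 F) ∣ M :=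
    fun {T M} hM hTM {c} hc h => ⟨M, hM, (orderOf_pspMk_dvd g hc h).trans hTM⟩
  have eps : ∀ {x : L}, x ^ 2 = 1 → ∃ c : F, (c = 1 ∨ c = -1) ∧ algebraMap F L c = x := by
    intro x hx
    rcases sq_eq_one_iff.1 hx with h2 | h2
    · exact ⟨1, Or.inl rfl, by rw [map_one, h2]⟩
    · exact ⟨-1, Or.inr rfl, by rw [map_neg, map_one, h2]⟩
  obtain ⟨l, hl, hls⟩ := quad_root s
  obtain ⟨μ, hμ, hμr⟩ := quad_root r
  rw [quad_eq hl hls, quad_eq hμ hμr] at hP
  -- a double pair
  have hdouble : ∀ T, (T = q - 1 ∨ T = q + 1) → N.charpoly.map (algebraMap F L) ∣ (X ^ T - C 1) ^ 2 →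
      ∃ M ∈ specList p q Hm Hp, orderOf (QuotientGroup.mk g : Cfsg.PSp 2 F) ∣ M := by
    intro T hT h
    have h1 := sub_pow_eq_zero (L := L) N (n := T) (a := 2) (c := 1) (by rwa [map_one])
    have h2 := pow_char_pow_eq p (k := 1) (by simpa using (Fact.out : p.Prime).two_le) h1
    rw [← pow_mul, one_pow, pow_one, mul_comm] at h2
    refine mem (M := p * T) ?_ dvd_rfl (Or.inl rfl) h2
    rcases hT with rfl | rfl <;> simp [specList]
  have hquad : ∀ {x : L}, x ≠ x⁻¹ → ∀ {T}, x ^ T = 1 → (X - C x) * (X - C x⁻¹) ∣ X ^ T - C 1 :=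
    fun {x} hne {T} h => X_sub_C_mul_dvd hne (X_sub_C_dvd_of_pow h)
      (X_sub_C_dvd_of_pow (by rw [inv_pow, h, inv_one]))
  have hT_of : ∀ {x z : L}, x ≠ 0 → x + x⁻¹ = z → z ^ q = z → ∃ T, (T = q - 1 ∨ T = q + 1) ∧ x ^ T = 1 := by
    intro x z hx hz hzq
    rcases pow_sub_or_pow_add p hx hz hqm hzq with h | h
    exacts [⟨_, Or.inl rfl, h⟩, ⟨_, Or.inr rfl, h⟩]
  by_cases hsr : s = r
  · rcases eq_or_inv_eq hl hμ (by rw [hls, hμr, hsr]) with e | e
    all_goals
      rw [e] at hP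
      try rw [inv_inv] at hP
      by_cases hne : l = l⁻¹
    · obtain ⟨c, hc, hcl⟩ := eps (x := l) (by rw [sq]; nth_rw 1 [hne]; exact inv_mul_cancel₀ hl)
      have h1 := sub_pow_eq_zero (L := L) N (n := 1) (a := 4) (c := c)
        (by rw [hP, ← hne, hcl, pow_one]; exact ⟨1, by ring⟩)
      have h2 := pow_char_pow_eq p (k := Nat.clog p 4) (Nat.le_pow_clog (Fact.out : p.Prime).one_lt 4) h1
      rw [pow_one] at h2
      refine mem (M := p ^ Nat.clog p 4) (by simp [specList]) dvd_rfl ?_ h2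
      rcases hc with rfl | rfl
      · exact Or.inl (one_pow _)
      · exact neg_one_pow_eq_or F _
    · obtain ⟨T, hT, hlT⟩ := hT_of hl hls ((hperm s r hsum hmul).elim id (fun h => h.trans hsr.symm))
      refine hdouble T hT ?_
      rw [hP, sq]
      exact mul_dvd_mul (hquad hne hlT) (hquad hne hlT)
    · obtain ⟨c, hc, hcl⟩ := eps (x := l) (by rw [sq]; nth_rw 1 [hne]; exact inv_mul_cancel₀ hl)
      have h1 := sub_pow_eq_zero (L := L) N (n := 1) (a := 4) (c := c)
        (by rw [hP, ← hne, hcl, pow_one]; exact ⟨1, by ring⟩)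
      have h2 := pow_char_pow_eq p (k := Nat.clog p 4) (Nat.le_pow_clog (Fact.out : p.Prime).one_lt 4) h1
      rw [pow_one] at h2
      refine mem (M := p ^ Nat.clog p 4) (by simp [specList]) dvd_rfl ?_ h2
      rcases hc with rfl | rfl
      · exact Or.inl (one_pow _)
      · exact neg_one_pow_eq_or F _
    · obtain ⟨T, hT, hlT⟩ := hT_of hl hls ((hperm s r hsum hmul).elim id (fun h => h.trans hsr.symm))
      refine hdouble T hT ?_
      rw [hP, mul_comm (X - C l⁻¹) (X - C l), sq]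
      exact mul_dvd_mul (hquad hne hlT) (hquad hne hlT)
  -- one pair equal to a sign
  have hsign : ∀ x z : L, ∀ z' : L, x ≠ 0 → x + x⁻¹ = z → x = x⁻¹ →
      ∀ y : L, y ≠ 0 → y + y⁻¹ = z' → z ≠ z' → z' ^ q ≠ z → (z' ^ q = z' ∨ z' ^ q = z) →
      N.charpoly.map (algebraMap F L) = (X - C x) * (X - C x⁻¹) * ((X - C y) * (X - C y⁻¹)) →
      ∃ M ∈ specList p q Hm Hp, orderOf (QuotientGroup.mk g : Cfsg.PSp 2 F) ∣ M := by
    intro x z z' hx hxz hxx y hy hyz hne hnq hor hch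
    obtain ⟨c, hc, hcx⟩ := eps (x := x) (by rw [sq]; nth_rw 1 [hxx]; exact inv_mul_cancel₀ hx)
    obtain ⟨T, hT, hyT⟩ := hT_of hy hyz (hor.resolve_right hnq)
    have hxT : x ^ T = 1 := by
      rw [← hcx, ← map_pow]
      rcases hc with rfl | rfl
      · rw [one_pow, map_one]
      rcases eq_or_ne p 2 with h2 | h2
      · subst h2
        rw [CharTwo.neg_eq, one_pow, map_one]
      · have hev : Even T := by
          have hqo : Odd q := hqm ▸ ((Fact.out : p.Prime).odd_of_ne_two h2).pow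
          obtain ⟨j, hj⟩ := hqo
          rcases hT with rfl | rfl
          exacts [⟨j, by omega⟩, ⟨j + 1, by omega⟩]
        rw [hev.neg_one_pow, map_one]
    refine hdouble T hT ?_
    rw [hch, ← hxx]
    have hxd : X - C x ∣ X ^ T - C 1 := X_sub_C_dvd_of_pow hxT
    by_cases hyy : y = y⁻¹
    · rw [← hyy, ← sq, ← sq, ← mul_pow]
      refine pow_dvd_pow_of_dvd (X_sub_C_mul_dvd ?_ hxd (X_sub_C_dvd_of_pow hyT)) 2
      rintro rfl
      exact hne (hxz.symm.trans hyz)
    · rw [sq, mul_assoc]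
      refine mul_dvd_mul hxd (IsCoprime.mul_dvd ?_ hxd (hquad hyy hyT))
      refine IsCoprime.mul_right ?_ ?_ <;>
        refine Polynomial.isCoprime_X_sub_C_of_isUnit_sub (sub_ne_zero.2 ?_).isUnit
      · rintro rfl; exact hne (hxz.symm.trans hyz)
      · rintro rfl
        exact hne (hxz.symm.trans (by rw [inv_inv, add_comm]; exact hyz))
  have hinj : ∀ {x y : L}, x ^ q = y ^ q → x = y := fun {x y} h => by
    rw [hqm] at h
    exact iterateFrobenius_inj L p m h
  have hsign_fix : ∀ {x z : L}, x ≠ 0 → x + x⁻¹ = z → x = x⁻¹ → z ^ q = z := by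
    intro x z hx hxz hxx
    obtain ⟨c, -, hcx⟩ := eps (x := x) (by rw [sq]; nth_rw 1 [hxx]; exact inv_mul_cancel₀ hx)
    rw [← hxz, ← hxx, ← hcx, ← map_add, hfixF]
  by_cases hll : l = l⁻¹
  · refine hsign l s r hl hls hll μ hμ hμr hsr ?_ ?_ hP
    · exact fun h => hsr (hinj (by rw [h, hsign_fix hl hls hll]))
    · exact hperm r s (by rw [add_comm, hsum]) (by rw [mul_comm, hmul])
  by_cases hμμ : μ = μ⁻¹
  · refine hsign μ r s hμ hμr hμμ l hl hls (Ne.symm hsr) ?_ (hperm s r hsum hmul) (by rw [hP, mul_comm])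
    exact fun h => hsr (hinj (by rw [h, hsign_fix hμ hμr hμμ]))
  -- four distinct eigenvalues
  have hfour : ∀ {μ' : L}, μ' ≠ 0 → μ' + μ'⁻¹ = r → ∀ {H M : ℕ}, M ∈ specList p q Hm Hp → H ∣ M →
      ∀ {c : F}, (c = 1 ∨ c = -1) → l ^ H = algebraMap F L c → μ' ^ H = algebraMap F L c →
      ∃ M ∈ specList p q Hm Hp, orderOf (QuotientGroup.mk g : Cfsg.PSp 2 F) ∣ M := by
    intro μ' hμ' hμ'r H M hM hHM c hc h1 h2
    refine mem hM hHM hc (pow_eq_of_dvd (L := L) N ?_)
    have hci : (algebraMap F L c)⁻¹ = algebraMap F L c := by rcases hc with rfl | rfl <;> simp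
    have hμ'μ' : μ' ≠ μ'⁻¹ := by
      rcases eq_or_inv_eq hμ hμ' (hμr.trans hμ'r.symm) with e | e <;> rw [e]
      · exact hμμ
      · rw [inv_inv]; exact Ne.symm hμμ
    have hP' : N.charpoly.map (algebraMap F L) = (X - C l) * (X - C l⁻¹) * ((X - C μ') * (X - C μ'⁻¹)) := by
      rw [hP, ← quad_eq hμ hμr, ← quad_eq hμ' hμ'r]
    rw [hP']
    refine IsCoprime.mul_dvd ?_ (X_sub_C_mul_dvd hll (X_sub_C_dvd_of_pow h1)
      (X_sub_C_dvd_of_pow (by rw [inv_pow, h1, hci]))) (X_sub_C_mul_dvd hμ'μ' (X_sub_C_dvd_of_pow h2)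
      (X_sub_C_dvd_of_pow (by rw [inv_pow, h2, hci])))
    have hne1 : l ≠ μ' := by rintro rfl; exact hsr (hls.symm.trans hμ'r)
    have hne2 : l ≠ μ'⁻¹ := by
      rintro rfl; exact hsr (hls.symm.trans (by rw [inv_inv, add_comm]; exact hμ'r))
    refine IsCoprime.mul_left (IsCoprime.mul_right ?_ ?_) (IsCoprime.mul_right ?_ ?_) <;>
      refine Polynomial.isCoprime_X_sub_C_of_isUnit_sub (sub_ne_zero.2 ?_).isUnit
    · exact hne1
    · exact hne2
    · exact fun h => hne2 (by rw [← h, inv_inv])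
    · exact fun h => hne1 (inv_injective h)
  rcases hperm s r hsum hmul with hsq | hsq
  · have hrq : r ^ q = r := by
      refine (hperm r s (by rw [add_comm, hsum]) (by rw [mul_comm, hmul])).resolve_right fun h => ?_
      exact hsr (hinj (hsq.trans h.symm))
    obtain ⟨T, hT, hlT⟩ := hT_of hl hls hsq
    obtain ⟨T', hT', hμT⟩ := hT_of hμ hμr hrq
    by_cases hTT : T = T'
    · subst hTT
      refine hfour hμ hμr (H := T) (M := p * T) ?_ (dvd_mul_left _ _) (c := 1) (Or.inl rfl)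
        (by rw [hlT, map_one]) (by rw [hμT, map_one])
      rcases hT with rfl | rfl <;> simp [specList]
    · have hdv : T ∣ Hm ∧ T' ∣ Hm := by
        rcases hT with rfl | rfl <;> rcases hT' with rfl | rfl
        exacts [absurd rfl hTT, ⟨hm1, hm2⟩, ⟨hm2, hm1⟩, absurd rfl hTT]
      obtain ⟨⟨d1, hd1⟩, ⟨d2, hd2⟩⟩ := hdv
      refine hfour hμ hμr (H := Hm) (M := Hm) (by simp [specList]) dvd_rfl (c := 1) (Or.inl rfl) ?_ ?_
      · rw [hd1, pow_mul, hlT, one_pow, map_one]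
      · rw [hd2, pow_mul, hμT, one_pow, map_one]
  · have hrq : r ^ q = s := by
      refine (hperm r s (by rw [add_comm, hsum]) (by rw [mul_comm, hmul])).resolve_left fun h => ?_
      exact hsr (hinj (hsq.trans h.symm))
    have hμ'r : l ^ q + (l ^ q)⁻¹ = r := by rw [← inv_pow, ← hadd, hls, hsq]
    have hs2 : s ^ (q ^ 2) = s := by rw [sq, pow_mul, hsq, hrq]
    have key : ∀ H, H ∈ specList p q Hm Hp → l ^ (e * H) = 1 →
        ∃ M ∈ specList p q Hm Hp, orderOf (QuotientGroup.mk g : Cfsg.PSp 2 F) ∣ M := by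
      intro H hH h
      rw [mul_comm, pow_mul] at h
      obtain ⟨c, hc, hcl⟩ := eps (x := l ^ H) (by
        rcases pm_of_pow he h with h2 | h2 <;> simp [h2])
      refine hfour (pow_ne_zero _ hl) hμ'r (H := H) (M := H) hH dvd_rfl hc hcl.symm ?_
      rw [← pow_mul, mul_comm, pow_mul, ← hcl, hfixF]
    rcases pow_sub_or_pow_add p hl hls (k := m * 2) (by rw [hqm, ← pow_mul]) hs2 with h | h
    · exact key Hm (by simp [specList]) (by rw [hm]; exact h)
    · exact key Hp (by simp [specList]) (by rw [hp]; exact h)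

end CfsgLib.PSpFourSpec
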